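import Mathlib
import Groth.Prelude.Def_MeroDiv
import Groth.Agent.AmpleLib.Tensor

/-!
# Local structure of `O_X(D)`
-/

set_option autoImplicit false
set_option maxHeartbeats 1000000

universe u

open CategoryTheory CategoryTheory.Limits AlgebraicGeometry TopologicalSpace
open Groth.Agent.ParaFLib

noncomputable section

namespace Groth.Agent.MeroLib

variable {X : Scheme.{u}} {D : Mero.Divisor X} {W : X.Opens}

/-- The section `g⁻¹` of `O_X(D)` where `D` is the divisor of `g`. -/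
def invSec (g : (Γ(Mero.kmod X, W))ˣ) (hg : ∀ y : W, D.1 y.1 = Mero.germOf g y) : Γ(Mero.divMod D, W) :=
  ⟨fun y => Mero.evalK X W y (g⁻¹ : (Γ(Mero.kmod X, W))ˣ).val,
    (g⁻¹ : (Γ(Mero.kmod X, W))ˣ).val.2, by
    intro y g' hg'
    rw [hg y] at hg'
    obtain ⟨v, hv⟩ : (Units.map (Mero.evalK X W y).toMonoidHom g)⁻¹ * g' ∈ Mero.stalkUnits X y.1 :=
      QuotientGroup.eq.mp hg'
    refine ⟨(v : X.presheaf.stalk y.1), ?_⟩
    have := congrArg Units.val hv
    rw [Units.val_mul] at this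
    exact this⟩

theorem gen_invSec (g : (Γ(Mero.kmod X, W))ˣ) (hg : ∀ y : W, D.1 y.1 = Mero.germOf g y) :
    Gen W (invSec g hg) := by
  let ev : ∀ y : W, Γ(Mero.kmod X, W) →+* Mero.KStalk X y.1 := fun y => Mero.evalK X W y
  refine fun O hO => ⟨?_, ?_⟩
  · intro r r' e
    refine TopCat.Presheaf.section_ext X.sheaf O r r' fun y hy => ?_
    apply Mero.algebraMap_KStalk_injective (X := X) y
    have hu : IsUnit (ev ⟨y, hO hy⟩ (g⁻¹ : (Γ(Mero.kmod X, W))ˣ).val) := (Units.isUnit g⁻¹).map _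
    apply hu.mul_left_injective
    have := congrArg (fun t : Γ(Mero.divMod D, O) => t.1 ⟨y, hy⟩) e
    change X.presheaf.germ O y hy r • _ = X.presheaf.germ O y hy r' • _ at this
    simp only [Algebra.smul_def] at this
    exact this
  · intro t
    have loc : ∀ y : O, ∃ (V : X.Opens) (_ : y.1 ∈ V) (hV : V ≤ O) (r : Γ(X, V)), ∀ z : V,
        algebraMap _ (Mero.KStalk X z.1) (X.presheaf.germ V z.1 z.2 r) =
          t.1 ⟨z.1, hV z.2⟩ * ev ⟨z.1, hO (hV z.2)⟩ g.val := by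
      rintro ⟨y, hy⟩
      have hp : (Mero.kLoc X).pred (fun z : O => t.1 z * ev ⟨z.1, hO z.2⟩ g.val) :=
        Mero.kLoc_mul X O _ (fun z : O => ev ⟨z.1, hO z.2⟩ g.val) t.2.1
          ((Mero.kLoc X).res (homOfLE hO) g.val.1 g.val.2)
      obtain ⟨V, hyV, i, a, b, hab⟩ := hp ⟨y, hy⟩
      obtain ⟨c, hc⟩ := t.2.2 ⟨y, hy⟩ (Units.map (Mero.evalK X W ⟨y, hO hy⟩).toMonoidHom g) (hg ⟨y, hO hy⟩)
      obtain ⟨V₁, hyV₁, r, rfl⟩ := TopCat.Presheaf.exists_germ_eq X.presheaf c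
      have e1 : X.presheaf.germ V₁ y hyV₁ r * X.presheaf.germ V y hyV b.1 = X.presheaf.germ V y hyV a := by
        apply Mero.algebraMap_KStalk_injective (X := X) y
        rw [map_mul, hc]
        have h1 := hab ⟨y, hyV⟩
        dsimp only at h1
        refine (congrArg (· * _) h1).trans ?_
        exact (congrArg (· * _) ((Localization.mk_eq_mk'_apply (M := Mero.regStalk X y) _ _))).trans
          (IsLocalization.mk'_spec (Mero.KStalk X y) _ _)
      have hy2 : y ∈ V₁ ⊓ V := ⟨hyV₁, hyV⟩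
      rw [← X.presheaf.germ_res_apply (homOfLE (inf_le_left : V₁ ⊓ V ≤ V₁)) y hy2,
        ← X.presheaf.germ_res_apply (homOfLE (inf_le_right : V₁ ⊓ V ≤ V)) y hy2 a,
        ← X.presheaf.germ_res_apply (homOfLE (inf_le_right : V₁ ⊓ V ≤ V)) y hy2 b.1, ← map_mul] at e1
      obtain ⟨V₂, hy3, i1, i2, e2⟩ := TopCat.Presheaf.germ_eq X.presheaf y hy2 hy2 _ _ e1
      refine ⟨V₂, hy3, (leOfHom i1).trans (inf_le_right.trans (leOfHom i)),
        X.presheaf.map i1.op (X.presheaf.map (homOfLE inf_le_left).op r), fun z => ?_⟩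
      have hzV : z.1 ∈ V := ((leOfHom i1) z.2).2
      have h1 := hab ⟨z.1, hzV⟩
      dsimp only at h1
      refine Eq.trans ?_ h1.symm
      have e3 := congrArg (X.presheaf.germ V₂ z.1 z.2) e2
      simp only [map_mul, TopCat.Presheaf.germ_res_apply] at e3
      simp only [TopCat.Presheaf.germ_res_apply]
      refine Eq.trans ?_ (Localization.mk_eq_mk'_apply (M := Mero.regStalk X z.1) _ _).symm
      refine IsLocalization.eq_mk'_iff_mul_eq.mpr ?_
      rw [← map_mul]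
      exact congrArg _ e3
    choose V hyV hV r hr using loc
    obtain ⟨a, ha, -⟩ := X.sheaf.existsUnique_gluing' V O (fun y => homOfLE (hV y))
      (fun y hy => TopologicalSpace.Opens.mem_iSup.2 ⟨⟨y, hy⟩, hyV ⟨y, hy⟩⟩) r (by
        intro i j
        refine TopCat.Presheaf.section_ext X.sheaf _ _ _ fun z hz => ?_
        refine (X.presheaf.germ_res_apply _ _ _ (r i)).trans (Eq.trans ?_ (X.presheaf.germ_res_apply _ _ _ (r j)).symm)
        exact Mero.algebraMap_KStalk_injective (X := X) z ((hr i ⟨z, hz.1⟩).trans (hr j ⟨z, hz.2⟩).symm))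
    refine ⟨a, Subtype.ext (funext fun y => ?_)⟩
    change X.presheaf.germ O y.1 y.2 a • ev ⟨y.1, hO y.2⟩ (g⁻¹ : (Γ(Mero.kmod X, W))ˣ).val = t.1 y
    have h1 : X.presheaf.germ O y.1 y.2 a = X.presheaf.germ (V y) y.1 (hyV y) (r y) := by
      have := congrArg (X.presheaf.germ (V y) y.1 (hyV y)) (ha y)
      exact (X.presheaf.germ_res_apply (homOfLE (hV y)) y.1 (hyV y) a).symm.trans this
    rw [Algebra.smul_def, h1, hr y ⟨y.1, hyV y⟩, mul_assoc, ← map_mul, Units.mul_inv, map_one, mul_one]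


lemma mul_unit_mem_regStalk {y : X} (a : Mero.regStalk X y) {V : X.Opens} (hy : y ∈ V) (u : Γ(X, V))
    (hu : IsUnit (X.presheaf.germ V y hy u)) :
    ∃ (V' : X.Opens) (hy' : y ∈ V') (f : Γ(X, V')), f ∈ Mero.regSub X V' ∧
      X.presheaf.germ V' y hy' f = a.1 * X.presheaf.germ V y hy u := by
  obtain ⟨V₀, hy₀, f₀, hf₀, e⟩ := a.2
  let B := X.basicOpen u
  have hyB : y ∈ B := (X.mem_basicOpen u y hy).2 hu
  refine ⟨V₀ ⊓ B, ⟨hy₀, hyB⟩, X.presheaf.map (homOfLE inf_le_left).op f₀ *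
    X.presheaf.map (homOfLE (inf_le_right.trans (X.basicOpen_le u) : V₀ ⊓ B ≤ V)).op u,
    Submonoid.mul_mem _ (Mero.regSub_res _ hf₀) fun z => ?_, ?_⟩
  · rw [TopCat.Presheaf.germ_res_apply]
    exact IsUnit.mem_nonZeroDivisors ((X.mem_basicOpen u z.1 (X.basicOpen_le u z.2.2)).1 z.2.2)
  · rw [map_mul, TopCat.Presheaf.germ_res_apply, TopCat.Presheaf.germ_res_apply, e]

/-- A positive divisor is near every point the divisor of a regular function. -/
theorem exists_regular_equation (hD : Mero.IsEffective D) (x : X) :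
    ∃ (W : X.Opens) (f : Γ(X, W)) (hf : f ∈ Mero.regSub X W) (g : (Γ(Mero.kmod X, W))ˣ),
      x ∈ W ∧ (∀ y : W, D.1 y.1 = Mero.germOf g y) ∧
      ∀ y : W, Mero.evalK X W y g.val =
        algebraMap (X.presheaf.stalk y.1) (Mero.KStalk X y.1) (Mero.regGerm y ⟨f, hf⟩).1 := by
  obtain ⟨U, hxU, g, hg⟩ := D.2 x
  obtain ⟨a, ha⟩ := hD x
  rw [hg ⟨x, hxU⟩] at ha
  obtain ⟨v, hv⟩ := QuotientGroup.eq.mp ha.symm
  have hv' := congrArg Units.val hv
  obtain ⟨V, hxV, u, hu⟩ := TopCat.Presheaf.exists_germ_eq X.presheaf (v : X.presheaf.stalk x)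
  obtain ⟨V', hxV', f, hf, hfx⟩ := mul_unit_mem_regStalk a hxV u (hu ▸ v.isUnit)
  have hgx : Mero.evalK X U ⟨x, hxU⟩ g.val = algebraMap _ (Mero.KStalk X x) (X.presheaf.germ V' x hxV' f) := by
    rw [hfx, hu, map_mul]
    rw [Units.val_mul] at hv'
    calc (Mero.evalK X U ⟨x, hxU⟩ g.val : Mero.KStalk X x)
        = algebraMap _ (Mero.KStalk X x) a.1 *
          ((IsLocalization.map_units (Mero.KStalk X x) a).unit⁻¹ :
            (Mero.KStalk X x)ˣ).val * Mero.evalK X U ⟨x, hxU⟩ g.val := by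
          rw [IsUnit.mul_val_inv, one_mul]
      _ = _ := by
          rw [mul_assoc]
          exact congrArg _ hv'.symm
  obtain ⟨T, hxT, i, m, b, hmb⟩ := g.val.2 ⟨x, hxU⟩
  have h1 := hmb ⟨x, hxT⟩
  dsimp only at h1
  have e : X.presheaf.germ T x hxT m = X.presheaf.germ V' x hxV' f * X.presheaf.germ T x hxT b.1 := by
    apply Mero.algebraMap_KStalk_injective (X := X) x
    rw [map_mul, ← hgx]
    refine Eq.symm ((congrArg (· * _) h1).trans ?_)
    exact (congrArg (· * _) ((Localization.mk_eq_mk'_apply (M := Mero.regStalk X x) _ _))).trans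
      (IsLocalization.mk'_spec (Mero.KStalk X x) _ _)
  have hx2 : x ∈ T ⊓ V' := ⟨hxT, hxV'⟩
  rw [← X.presheaf.germ_res_apply (homOfLE (inf_le_left : T ⊓ V' ≤ T)) x hx2 m,
    ← X.presheaf.germ_res_apply (homOfLE (inf_le_right : T ⊓ V' ≤ V')) x hx2 f,
    ← X.presheaf.germ_res_apply (homOfLE (inf_le_left : T ⊓ V' ≤ T)) x hx2 b.1, ← map_mul] at e
  obtain ⟨W, hxW, i1, i2, e2⟩ := TopCat.Presheaf.germ_eq X.presheaf x hx2 hx2 _ _ e
  have hWV : W ≤ V' := (leOfHom i1).trans inf_le_right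
  have hWU : W ≤ U := (leOfHom i1).trans (inf_le_left.trans (leOfHom i))
  refine ⟨W, X.presheaf.map (homOfLE hWV).op f, Mero.regSub_res _ hf,
    Units.map ((Mero.kring X).obj.map (homOfLE hWU).op).hom.toMonoidHom g, hxW,
    fun y => hg ⟨y.1, hWU y.2⟩, fun y => ?_⟩
  have hyT : y.1 ∈ T := ((leOfHom i1) y.2).1
  have h2 := hmb ⟨y.1, hyT⟩
  dsimp only at h2
  refine h2.trans ?_
  refine (Localization.mk_eq_mk'_apply (M := Mero.regStalk X y.1) _ _).trans ?_
  refine IsLocalization.mk'_eq_iff_eq_mul.mpr ?_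
  rw [← map_mul]
  refine congrArg _ ?_
  have e3 := congrArg (X.presheaf.germ W y.1 y.2) e2
  simp only [map_mul, TopCat.Presheaf.germ_res_apply] at e3
  exact e3.trans (congrArg (· * _) (TopCat.Presheaf.germ_res_apply X.presheaf (homOfLE hWV) y.1 y.2 f).symm)

end Groth.Agent.MeroLib
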