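import Mathlib
import Groth.Prelude.Def_MeroDiv
import Groth.Agent.Depth.FlatLocal

/-!
# Regular sections and pullback
-/

set_option autoImplicit false

universe u

open CategoryTheory AlgebraicGeometry TopologicalSpace

namespace Groth.Agent.MeroLib

variable {X Y : Scheme.{u}}

theorem isUnit_germ_fromSpec {W : X.Opens} (hW : IsAffineOpen W) (q : PrimeSpectrum Γ(X, W))
    (hq : hW.fromSpec q ∈ W) (a : Γ(X, W)) :
    IsUnit (X.presheaf.germ W (hW.fromSpec q) hq a) ↔ a ∉ q.asIdeal := by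
  letI : Algebra Γ(X, W) (X.presheaf.stalk (hW.fromSpec q)) :=
    TopCat.Presheaf.algebra_section_stalk X.presheaf (⟨hW.fromSpec q, hq⟩ : W)
  haveI : IsLocalization.AtPrime (X.presheaf.stalk (hW.fromSpec q)) q.asIdeal := hW.isLocalization_stalk' q hq
  exact IsLocalization.AtPrime.isUnit_to_map_iff (X.presheaf.stalk (hW.fromSpec q)) q.asIdeal a

theorem maximalIdeal_mem_associatedPrimes {W : X.Opens} (hW : IsAffineOpen W) [IsNoetherianRing Γ(X, W)]
    (q : PrimeSpectrum Γ(X, W)) (hq : hW.fromSpec q ∈ W) (h : q.asIdeal ∈ associatedPrimes Γ(X, W) Γ(X, W)) :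
    IsLocalRing.maximalIdeal (X.presheaf.stalk (hW.fromSpec q)) ∈
      associatedPrimes (X.presheaf.stalk (hW.fromSpec q)) (X.presheaf.stalk (hW.fromSpec q)) := by
  letI : Algebra Γ(X, W) (X.presheaf.stalk (hW.fromSpec q)) :=
    TopCat.Presheaf.algebra_section_stalk X.presheaf (⟨hW.fromSpec q, hq⟩ : W)
  haveI : IsLocalization.AtPrime (X.presheaf.stalk (hW.fromSpec q)) q.asIdeal := hW.isLocalization_stalk' q hq
  rw [← IsLocalization.AtPrime.comap_maximalIdeal (X.presheaf.stalk (hW.fromSpec q)) q.asIdeal] at h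
  rwa [← Module.associatedPrimes.preimage_comap_associatedPrimes_eq_associatedPrimes_of_isLocalizedModule
    q.asIdeal.primeCompl (X.presheaf.stalk (hW.fromSpec q))
    (Algebra.linearMap Γ(X, W) (X.presheaf.stalk (hW.fromSpec q))), Set.mem_preimage]

theorem germ_mem_nonZeroDivisors {W : X.Opens} (hW : IsAffineOpen W) {a : Γ(X, W)}
    (ha : a ∈ nonZeroDivisors Γ(X, W)) (x : X) (hx : x ∈ W) :
    X.presheaf.germ W x hx a ∈ nonZeroDivisors (X.presheaf.stalk x) := by
  letI : Algebra Γ(X, W) (X.presheaf.stalk x) := TopCat.Presheaf.algebra_section_stalk X.presheaf (⟨x, hx⟩ : W)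
  haveI : IsLocalization.AtPrime (X.presheaf.stalk x) (hW.primeIdealOf ⟨x, hx⟩).asIdeal :=
    hW.isLocalization_stalk ⟨x, hx⟩
  exact IsLocalization.map_nonZeroDivisors_le (R := Γ(X, W)) (hW.primeIdealOf ⟨x, hx⟩).asIdeal.primeCompl
    (X.presheaf.stalk x) (Submonoid.mem_map_of_mem (algebraMap Γ(X, W) (X.presheaf.stalk x)) ha)

/-- Regularity of `a` may be tested on affine opens. -/
theorem regSub_of_forall_affine {V : X.Opens} (a : Γ(X, V))
    (h : ∀ (W : X.Opens) (_ : IsAffineOpen W) (hle : W ≤ V),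
      X.presheaf.map (homOfLE hle).op a ∈ nonZeroDivisors Γ(X, W)) : a ∈ Mero.regSub X V := fun x => by
  obtain ⟨W, hW, hxW, hle⟩ := exists_isAffineOpen_mem_and_subset x.2
  have := germ_mem_nonZeroDivisors hW (h W hW hle) x.1 hxW
  rwa [TopCat.Presheaf.germ_res_apply] at this

theorem germ_app_apply (f : X ⟶ Y) {U : Y.Opens} (s : Γ(Y, U)) {W : X.Opens} (hle : W ≤ f ⁻¹ᵁ U) (z : X)
    (hz : z ∈ W) :
    X.presheaf.germ W z hz (X.presheaf.map (homOfLE hle).op (f.app U s)) =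
      f.stalkMap z (Y.presheaf.germ U (f z) (hle hz) s) := by
  rw [TopCat.Presheaf.germ_res_apply, Scheme.Hom.germ_stalkMap_apply]

theorem regSub_app_of_ass [IsLocallyNoetherian X] [IsLocallyNoetherian Y] (f : X ⟶ Y)
    (hf : ∀ x : X, IsAssociatedPrime (IsLocalRing.maximalIdeal (X.presheaf.stalk x)) (X.presheaf.stalk x) →
      IsAssociatedPrime (IsLocalRing.maximalIdeal (Y.presheaf.stalk (f x))) (Y.presheaf.stalk (f x)))
    (U : Y.Opens) (s : Γ(Y, U)) (hs : s ∈ Mero.regSub Y U) : f.app U s ∈ Mero.regSub X (f ⁻¹ᵁ U) := by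
  refine regSub_of_forall_affine _ fun W hW hle => ?_
  haveI : IsNoetherianRing Γ(X, W) := IsLocallyNoetherian.component_noetherian ⟨W, hW⟩
  by_contra hna
  obtain ⟨p, hp, hap⟩ : ∃ p ∈ associatedPrimes Γ(X, W) Γ(X, W),
      X.presheaf.map (homOfLE hle).op (f.app U s) ∈ p := by
    have : X.presheaf.map (homOfLE hle).op (f.app U s) ∈
        ⋃ p ∈ associatedPrimes Γ(X, W) Γ(X, W), (p : Set Γ(X, W)) := by
      rw [biUnion_associatedPrimes_eq_compl_nonZeroDivisors]
      exact hna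
    obtain ⟨p, hp, hap⟩ := Set.mem_iUnion₂.1 this
    exact ⟨p, hp, hap⟩
  let q : PrimeSpectrum Γ(X, W) := ⟨p, IsAssociatedPrime.isPrime hp⟩
  have hq : hW.fromSpec q ∈ W := hW.range_fromSpec.subset (Set.mem_range_self q)
  obtain ⟨x, hx⟩ : ∃ x, x = hW.fromSpec q := ⟨_, rfl⟩
  have hass := hf _ (maximalIdeal_mem_associatedPrimes hW q hq hp)
  have hnu := (isUnit_germ_fromSpec hW q hq (X.presheaf.map (homOfLE hle).op (f.app U s))).not.2 (not_not.2 hap)
  rw [germ_app_apply f s hle] at hnu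
  have hm : Y.presheaf.germ U (f (hW.fromSpec q)) (hle hq) s ∈
      IsLocalRing.maximalIdeal (Y.presheaf.stalk (f (hW.fromSpec q))) :=
    fun hu => hnu (hu.map (f.stalkMap (hW.fromSpec q)).hom)
  have hz := hs ⟨f (hW.fromSpec q), hle hq⟩
  obtain ⟨hP, z, hz'⟩ := (isAssociatedPrime_iff).1 hass
  rw [hz', Submodule.mem_colon_singleton, Submodule.mem_bot, smul_eq_mul] at hm
  have hz0 : z = 0 := (mul_right_mem_nonZeroDivisors_eq_zero_iff hz).1 ((mul_comm _ _).trans hm)
  refine hP.ne_top ?_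
  rw [hz', hz0, eq_top_iff]
  exact fun r _ => by simp

theorem eq_of_specializes_of_minimal {W : X.Opens} (hW : IsAffineOpen W) (q : PrimeSpectrum Γ(X, W))
    (hq : q.asIdeal ∈ minimalPrimes Γ(X, W)) (z : X) (hz : z ⤳ hW.fromSpec q) : z = hW.fromSpec q := by
  have hzW : z ∈ W := hz.mem_open W.2 (hW.range_fromSpec.subset (Set.mem_range_self q))
  obtain ⟨q', rfl⟩ := hW.range_fromSpec.superset hzW
  have hle : (q' : PrimeSpectrum Γ(X, W)).asIdeal ≤ q.asIdeal := (PrimeSpectrum.le_iff_specializes q' q).2 (hW.fromSpec.isOpenEmbedding.isInducing.specializes_iff.1 hz)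
  exact congrArg _ (PrimeSpectrum.ext (le_antisymm hle (hq.2 ⟨q'.2, bot_le⟩ hle)))

/-- At a maximal point a nonunit is nilpotent. -/
theorem isNilpotent_of_maximal (y : Y) (hy : ∀ z : Y, z ⤳ y → z = y) {b : Y.presheaf.stalk y} (hb : ¬ IsUnit b) :
    IsNilpotent b := by
  rw [← mem_nilradical, nilradical_eq_sInf, Ideal.mem_sInf]
  intro J hJ
  have hall : ∀ P : PrimeSpectrum (Y.presheaf.stalk y), Y.fromSpecStalk y P = y := fun P =>
    hy _ (Scheme.range_fromSpecStalk.subset (Set.mem_range_self P))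
  have he : (⟨J, hJ⟩ : PrimeSpectrum (Y.presheaf.stalk y)) = IsLocalRing.closedPoint (Y.presheaf.stalk y) :=
    (Y.fromSpecStalk y).isEmbedding.injective ((hall _).trans (hall _).symm)
  rw [show J = IsLocalRing.maximalIdeal (Y.presheaf.stalk y) from congrArg PrimeSpectrum.asIdeal he]
  exact hb

theorem regSub_app_of_reduced [IsReduced X] (f : X ⟶ Y)
    (hf : ∀ ξ : X, (∀ z : X, z ⤳ ξ → z = ξ) → ∀ z : Y, z ⤳ f ξ → z = f ξ)
    (U : Y.Opens) (s : Γ(Y, U)) (hs : s ∈ Mero.regSub Y U) : f.app U s ∈ Mero.regSub X (f ⁻¹ᵁ U) := by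
  refine regSub_of_forall_affine _ fun W hW hle => ?_
  rw [mem_nonZeroDivisors_iff_right]
  intro b hb
  by_contra hb0
  have : b ∉ sInf ((⊥ : Ideal Γ(X, W)).minimalPrimes) := by
    rw [Ideal.sInf_minimalPrimes]
    exact fun h => hb0 (IsReduced.eq_zero b (mem_nilradical.1 h))
  rw [Ideal.mem_sInf] at this
  push Not at this
  obtain ⟨p, hp, hbp⟩ := this
  let q : PrimeSpectrum Γ(X, W) := ⟨p, hp.1.1⟩
  have hq : hW.fromSpec q ∈ W := hW.range_fromSpec.subset (Set.mem_range_self q)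
  have hap : X.presheaf.map (homOfLE hle).op (f.app U s) ∈ q.asIdeal :=
    (hp.1.1.mem_or_mem (hb ▸ p.zero_mem)).resolve_left hbp
  have hnu := (isUnit_germ_fromSpec hW q hq _).not.2 (not_not.2 hap)
  rw [germ_app_apply f s hle] at hnu
  have hnil := isNilpotent_of_maximal _ (hf _ (eq_of_specializes_of_minimal hW q hp))
    (fun hu => hnu (hu.map (f.stalkMap (hW.fromSpec q)).hom))
  obtain ⟨n, hn⟩ := hnil
  have := (nonZeroDivisors _).pow_mem (hs ⟨f (hW.fromSpec q), hle hq⟩) n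
  rw [hn] at this
  exact zero_notMem_nonZeroDivisors this

end Groth.Agent.MeroLib
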