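import Mathlib
import Groth.Agent.MeroLib.Basic
import Groth.Agent.PullbackMod.Hom
import Groth.Agent.ZeroSchemeLib.Basic

/-!
# The divisor of a nonzero section of an invertible module on an integral scheme
-/

set_option autoImplicit false
set_option maxHeartbeats 1000000

universe u

open CategoryTheory CategoryTheory.Limits AlgebraicGeometry TopologicalSpace
open Groth.Agent.ParaFLib Groth.Agent.AmpleLib Groth.Agent.PullbackMod

noncomputable section

namespace Groth.Agent.MeroLib

variable {X : Scheme.{u}} {W : X.Opens}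


lemma mk_eq_mul_inv {R : Type u} [CommRing R] {S : Submonoid R} (a : R) (b : S)
    (v : (Localization S)ˣ) (hv : (v : Localization S) = algebraMap R (Localization S) b.1) :
    (LocalizedModule.mk a b : Localization S) = algebraMap R (Localization S) a * (v⁻¹ : (Localization S)ˣ) := by
  rw [Units.eq_mul_inv_iff_mul_eq, hv]
  exact (congrArg (· * _) (Localization.mk_eq_mk'_apply (M := S) a b)).trans
    (IsLocalization.mk'_spec (Localization S) a b)

/-- A regular function as a unit of the meromorphic functions. -/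
def regUnit (f : Γ(X, W)) (hf : f ∈ Mero.regSub X W) : (Γ(Mero.kmod X, W))ˣ where
  val := ⟨fun y => LocalizedModule.mk (X.presheaf.germ W y.1 y.2 f) 1, fun y =>
    ⟨W, y.2, 𝟙 _, f, 1, fun z => Mero.mk_congr rfl
      (show (1 : X.presheaf.stalk z.1) = X.presheaf.germ W z.1 z.2 (1 : Γ(X, W)) from (map_one _).symm)⟩⟩
  inv := ⟨fun y => LocalizedModule.mk (X.presheaf.germ W y.1 y.2 1) (Mero.regGerm y ⟨f, hf⟩), fun y =>
    ⟨W, y.2, 𝟙 _, 1, ⟨f, hf⟩, fun _ => rfl⟩⟩
  val_inv := Subtype.ext (funext fun y => by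
    show (LocalizedModule.mk (X.presheaf.germ W y.1 y.2 f) 1 : Mero.KStalk X y.1) *
      LocalizedModule.mk (X.presheaf.germ W y.1 y.2 1) (Mero.regGerm y ⟨f, hf⟩) = 1
    refine (LocalizedModule.mk_mul_mk).trans ((Mero.mk_congr ?_ ?_).trans
      (Mero.mk_self_eq_one (Mero.regGerm y ⟨f, hf⟩)))
    · rw [map_one, mul_one]
    · rw [one_mul])
  inv_val := Subtype.ext (funext fun y => by
    show (LocalizedModule.mk (X.presheaf.germ W y.1 y.2 1) (Mero.regGerm y ⟨f, hf⟩) : Mero.KStalk X y.1) *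
      LocalizedModule.mk (X.presheaf.germ W y.1 y.2 f) 1 = 1
    refine (LocalizedModule.mk_mul_mk).trans ((Mero.mk_congr ?_ ?_).trans
      (Mero.mk_self_eq_one (Mero.regGerm y ⟨f, hf⟩)))
    · rw [map_one, one_mul]
    · rw [mul_one])

lemma evalK_regUnit (f : Γ(X, W)) (hf : f ∈ Mero.regSub X W) (y : W) :
    Mero.evalK X W y (regUnit f hf).val =
      algebraMap (X.presheaf.stalk y.1) (Mero.KStalk X y.1) (X.presheaf.germ W y.1 y.2 f) :=
  (Localization.mk_eq_mk'_apply (M := Mero.regStalk X y.1) _ _).trans (IsLocalization.mk'_one _ _)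

lemma regSub_of_ne_zero [IsIntegral X] {f : Γ(X, W)} (hf : f ≠ 0) : f ∈ Mero.regSub X W := fun x => by
  refine mem_nonZeroDivisors_of_ne_zero fun h0 => hf (germ_injective_of_isIntegral X x.1 x.2 ?_)
  rw [h0, map_zero]

/-- Local equations of a section. -/
structure LocalEq {L : X.Modules} (σ : Γ(L, ⊤)) (x : X) where
  W : X.Opens
  mem : x ∈ W
  e : Γ(L, W)
  gen : Gen W e
  c : Γ(X, W)
  eq : c • e = resT σ (O := W)
  reg : c ∈ Mero.regSub X W

variable {L : X.Modules} {σ : Γ(L, ⊤)}

theorem exists_localEq [IsIntegral X] (hL : PicF.IsInvertible L) (hσ : σ ≠ 0) (x : X) :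
    Nonempty (LocalEq σ x) := by
  obtain ⟨W, e, hxW, he⟩ := exists_gen_nhd hL x
  obtain ⟨c, hc⟩ := (he W le_rfl).2 (resT σ (O := W))
  have hc' : c • e = resT σ (O := W) := by
    rw [← hc]
    show _ = c • L.presheaf.map (homOfLE le_rfl).op e
    rw [res_self]
  refine ⟨⟨W, hxW, e, he, c, hc', regSub_of_ne_zero fun h0 => hσ ?_⟩⟩
  refine eq_zero_of_germ_generic hL σ fun hη => ?_
  have hηW : genericPoint X ∈ W :=
    ((genericPoint_spec X).mem_open_set_iff W.2).2 ⟨x, trivial, hxW⟩
  rw [← TopCat.Presheaf.germ_res_apply L.presheaf (homOfLE (le_top : W ≤ ⊤)) (genericPoint X) hηW]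
  show L.presheaf.germ W (genericPoint X) hηW (resT σ (O := W)) = 0
  rw [← hc', h0, zero_smul, map_zero]

lemma germ_eq_smul {x : X} (d : LocalEq σ x) (z : X) (hz : z ∈ d.W) :
    X.presheaf.germ d.W z hz d.c • L.presheaf.germ d.W z hz d.e = L.presheaf.germ ⊤ z trivial σ := by
  rw [← ParaFLib.germ_smul', d.eq]
  exact TopCat.Presheaf.germ_res_apply L.presheaf (homOfLE le_top) z hz σ

lemma aux {K : Type*} [CommRing K] (A A' B B' R R' T : K) (hA : A' * A = 1) (hB : B' * B = 1)
    (hR : R = R' * T) (hC : A = B * T) : R * A' = R' * B' := by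
  subst hR hC
  linear_combination (R' * B') * hA - (R' * T * A') * hB

/-- The coefficient fraction `r / c` does not depend on the local equation. -/
lemma key {x x' : X} (d : LocalEq σ x) (d' : LocalEq σ x') (z : X) (hz : z ∈ d.W) (hz' : z ∈ d'.W)
    (r r' : X.presheaf.stalk z)
    (h : r • L.presheaf.germ d.W z hz d.e = r' • L.presheaf.germ d'.W z hz' d'.e) :
    algebraMap _ (Mero.KStalk X z) r * Mero.evalK X d.W ⟨z, hz⟩ ((regUnit d.c d.reg)⁻¹).val =
      algebraMap _ (Mero.KStalk X z) r' * Mero.evalK X d'.W ⟨z, hz'⟩ ((regUnit d'.c d'.reg)⁻¹).val := by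
  have hb := d.gen.bijective_germ z hz
  obtain ⟨t, ht⟩ := hb.2 (L.presheaf.germ d'.W z hz' d'.e)
  have h1 : r = r' * t := hb.1 (show r • _ = (r' * t) • _ by rw [mul_smul, h]; exact congrArg _ ht.symm)
  have h2 : X.presheaf.germ d.W z hz d.c = X.presheaf.germ d'.W z hz' d'.c * t :=
    hb.1 (show _ • _ = (_ * t) • _ by
      rw [mul_smul, germ_eq_smul d z hz, ← germ_eq_smul d' z hz']; exact congrArg _ ht.symm)
  have hu : IsUnit (Mero.evalK X d.W ⟨z, hz⟩ (regUnit d.c d.reg).val) := (Units.isUnit _).map _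
  have hu' : IsUnit (Mero.evalK X d'.W ⟨z, hz'⟩ (regUnit d'.c d'.reg).val) := (Units.isUnit _).map _
  have e1 : Mero.evalK X d.W ⟨z, hz⟩ ((regUnit d.c d.reg)⁻¹).val *
      Mero.evalK X d.W ⟨z, hz⟩ (regUnit d.c d.reg).val = 1 := by rw [← map_mul, Units.inv_mul, map_one]
  have e2 : Mero.evalK X d'.W ⟨z, hz'⟩ ((regUnit d'.c d'.reg)⁻¹).val *
      Mero.evalK X d'.W ⟨z, hz'⟩ (regUnit d'.c d'.reg).val = 1 := by rw [← map_mul, Units.inv_mul, map_one]
  refine aux (Mero.evalK X d.W ⟨z, hz⟩ (regUnit d.c d.reg).val) _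
    (Mero.evalK X d'.W ⟨z, hz'⟩ (regUnit d'.c d'.reg).val) _ _ _ (algebraMap _ (Mero.KStalk X z) t) e1 e2
    ((congrArg _ h1).trans (map_mul _ _ _)) ?_
  exact (evalK_regUnit d.c d.reg ⟨z, hz⟩).trans (((congrArg _ h2).trans (map_mul _ _ _)).trans
    (congrArg (· * _) (evalK_regUnit d'.c d'.reg ⟨z, hz'⟩).symm))

variable (d : ∀ x : X, LocalEq σ x)

/-- The divisor with local equations `c`. -/
def divisor : Mero.Divisor X :=
  ⟨fun x => Mero.germOf (regUnit (d x).c (d x).reg) ⟨x, (d x).mem⟩, fun x =>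
    ⟨(d x).W, (d x).mem, regUnit (d x).c (d x).reg, fun y => by
      refine QuotientGroup.eq.mpr ?_
      have hb := (d x).gen.bijective_germ y.1 y.2
      have hb' := (d y.1).gen.bijective_germ y.1 (d y.1).mem
      obtain ⟨t, ht⟩ := hb.2 (L.presheaf.germ (d y.1).W y.1 (d y.1).mem (d y.1).e)
      obtain ⟨t', ht'⟩ := hb'.2 (L.presheaf.germ (d x).W y.1 y.2 (d x).e)
      dsimp only at ht ht'
      have htt : t * t' = 1 := hb'.1 (show (t * t') • _ = (1 : X.presheaf.stalk y.1) • _ by
        rw [mul_smul, ht', ht, one_smul])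
      refine ⟨⟨t, t', htt, by rw [mul_comm, htt]⟩, ?_⟩
      have h := key (d x) (d y.1) y.1 y.2 (d y.1).mem t 1 (by rw [one_smul, ht])
      rw [map_one, one_mul] at h
      have hu : IsUnit (Mero.evalK X (d y.1).W ⟨y.1, (d y.1).mem⟩ (regUnit (d y.1).c (d y.1).reg).val) :=
        (Units.isUnit _).map _
      refine Units.ext ?_
      rw [Units.val_mul]
      show algebraMap _ (Mero.KStalk X y.1) t =
        Mero.evalK X (d y.1).W ⟨y.1, (d y.1).mem⟩ ((regUnit (d y.1).c (d y.1).reg)⁻¹).val *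
          Mero.evalK X (d x).W y (regUnit (d x).c (d x).reg).val
      rw [← h, mul_assoc, ← map_mul, Units.inv_mul, map_one, mul_one]⟩⟩

theorem divisor_spec {x : X} (y : (d x).W) :
    (divisor d).1 y.1 = Mero.germOf (regUnit (d x).c (d x).reg) y := by
  obtain ⟨t, ht⟩ := ((d x).gen.bijective_germ y.1 y.2).2 (L.presheaf.germ (d y.1).W y.1 (d y.1).mem (d y.1).e)
  obtain ⟨t', ht'⟩ := ((d y.1).gen.bijective_germ y.1 (d y.1).mem).2 (L.presheaf.germ (d x).W y.1 y.2 (d x).e)
  dsimp only at ht ht'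
  refine QuotientGroup.eq.mpr ⟨⟨t, t', ?_, ?_⟩, Units.ext ?_⟩
  · exact ((d y.1).gen.bijective_germ y.1 (d y.1).mem).1
      (show (t * t') • _ = (1 : X.presheaf.stalk y.1) • _ by rw [mul_smul, ht', ht, one_smul])
  · exact ((d x).gen.bijective_germ y.1 y.2).1
      (show (t' * t) • _ = (1 : X.presheaf.stalk y.1) • _ by rw [mul_smul, ht, ht', one_smul])
  · have h := key (d x) (d y.1) y.1 y.2 (d y.1).mem t 1 (by rw [one_smul, ht])
    rw [map_one, one_mul] at h
    rw [Units.val_mul]
    show algebraMap _ (Mero.KStalk X y.1) t =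
      Mero.evalK X (d y.1).W ⟨y.1, (d y.1).mem⟩ ((regUnit (d y.1).c (d y.1).reg)⁻¹).val *
        Mero.evalK X (d x).W y (regUnit (d x).c (d x).reg).val
    rw [← h, mul_assoc, ← map_mul, Units.inv_mul, map_one, mul_one]

/-- The coefficient of a germ. -/
def coef (x : X) : L.presheaf.stalk x →ₗ[X.presheaf.stalk x] Mero.KStalk X x :=
  ((LinearMap.toSpanSingleton (X.presheaf.stalk x) (Mero.KStalk X x)
      (Mero.evalK X (d x).W ⟨x, (d x).mem⟩ ((regUnit (d x).c (d x).reg)⁻¹).val))).comp
    (LinearEquiv.ofBijective (LinearMap.toSpanSingleton (X.presheaf.stalk x) (L.presheaf.stalk x)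
      (L.presheaf.germ (d x).W x (d x).mem (d x).e)) ((d x).gen.bijective_germ x (d x).mem)).symm.toLinearMap

lemma coef_eq {x z : X} (hz : z ∈ (d x).W) (r : X.presheaf.stalk z) :
    coef d z (r • L.presheaf.germ (d x).W z hz (d x).e) =
      algebraMap _ (Mero.KStalk X z) r *
        Mero.evalK X (d x).W ⟨z, hz⟩ ((regUnit (d x).c (d x).reg)⁻¹).val := by
  let E := LinearEquiv.ofBijective (LinearMap.toSpanSingleton (X.presheaf.stalk z) (L.presheaf.stalk z)
      (L.presheaf.germ (d z).W z (d z).mem (d z).e)) ((d z).gen.bijective_germ z (d z).mem)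
  obtain ⟨q, hq⟩ := E.surjective (r • L.presheaf.germ (d x).W z hz (d x).e)
  have hq' : q • L.presheaf.germ (d z).W z (d z).mem (d z).e = r • L.presheaf.germ (d x).W z hz (d x).e := hq
  show E.symm (r • _) • Mero.evalK X (d z).W ⟨z, (d z).mem⟩ _ = _
  rw [← hq, LinearEquiv.symm_apply_apply, Algebra.smul_def]
  exact key (d z) (d x) z (d z).mem hz q r hq'

/-- `l ↦ l / σ`. -/
def ratio : L ⟶ Mero.divMod (divisor d) :=
  ⟨PresheafOfModules.homMk (M₁ := L.val) (M₂ := (Mero.divMod (divisor d)).val)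
    { app := fun U => AddCommGrpCat.ofHom
        { toFun := fun (l : Γ(L, U.unop)) => (⟨fun x => coef d x.1 (L.presheaf.germ U.unop x.1 x.2 l), by
            intro y
            obtain ⟨a, ha⟩ := ((d y.1).gen (U.unop ⊓ (d y.1).W) inf_le_right).2
              (L.presheaf.map (homOfLE inf_le_left).op l)
            obtain ⟨T, hT, i, m, b, hmb⟩ := ((Mero.kLoc X).res (homOfLE (inf_le_right : U.unop ⊓ (d y.1).W ≤ (d y.1).W))
                _ ((regUnit (d y.1).c (d y.1).reg)⁻¹).val.2) ⟨y.1, y.2, (d y.1).mem⟩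
            refine ⟨T, hT, i ≫ homOfLE inf_le_left, X.presheaf.map i.op a * m, b, fun z => ?_⟩
            have hzU : z.1 ∈ U.unop ⊓ (d y.1).W := leOfHom i z.2
            have e1 : L.presheaf.germ U.unop z.1 hzU.1 l =
                X.presheaf.germ _ z.1 hzU a • L.presheaf.germ (d y.1).W z.1 hzU.2 (d y.1).e := by
              rw [← TopCat.Presheaf.germ_res_apply L.presheaf (homOfLE (inf_le_left : U.unop ⊓ (d y.1).W ≤ U.unop)) z.1 hzU]
              refine (congrArg _ ha.symm).trans ?_
              rw [ParaFLib.germ_smul', TopCat.Presheaf.germ_res_apply]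
            show coef d z.1 (L.presheaf.germ U.unop z.1 hzU.1 l) = _
            rw [e1, coef_eq d hzU.2]
            have h2 := hmb z
            refine (congrArg (_ * ·) h2).trans ?_
            rw [← Algebra.smul_def, LocalizedModule.smul'_mk]
            refine Mero.mk_congr ?_ rfl
            rw [smul_eq_mul, map_mul, TopCat.Presheaf.germ_res_apply], fun z g hg => by
              obtain ⟨q, hq⟩ := ((d z.1).gen.bijective_germ z.1 (d z.1).mem).2 (L.presheaf.germ U.unop z.1 z.2 l)
              dsimp only at hq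
              show coef d z.1 (L.presheaf.germ U.unop z.1 z.2 l) * (g : Mero.KStalk X z.1) ∈ _
              rw [show coef d z.1 (L.presheaf.germ U.unop z.1 z.2 l) = _ from (congrArg _ hq.symm).trans (coef_eq d _ q),
                mul_assoc]
              exact mul_mem ⟨q, rfl⟩ ((invSec _ fun y => divisor_spec d y).2.2 ⟨z.1, (d z.1).mem⟩ g hg)⟩ :
            Γ(Mero.divMod (divisor d), U.unop))
          map_zero' := Subtype.ext <| funext fun x => by
            show coef d x.1 (L.presheaf.germ U.unop x.1 x.2 0) = 0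
            rw [map_zero, map_zero]
          map_add' := fun a b => Subtype.ext <| funext fun x => by
            show coef d x.1 (L.presheaf.germ U.unop x.1 x.2 (a + b)) = _
            exact (congrArg (coef d x.1) (map_add (L.presheaf.germ U.unop x.1 x.2).hom a b)).trans
              (map_add (coef d x.1) _ _) }
      naturality := fun {U V} i => by
        ext l
        exact Subtype.ext (funext fun x => congrArg (coef d x.1)
          (TopCat.Presheaf.germ_res_apply' L.presheaf i x.1 x.2 l)) }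
    (fun U r l => Subtype.ext <| funext fun x => by
      show coef d x.1 (L.presheaf.germ U.unop x.1 x.2 (r • l)) = X.presheaf.germ U.unop x.1 x.2 r • _
      exact ((congrArg _ (ParaFLib.germ_smul' x.1 x.2 r l)).trans (map_smul (coef d x.1) _ _)))⟩

lemma ratio_apply {U : X.Opens} (l : Γ(L, U)) (x : U) :
    ((ratio d).app U l).1 x = coef d x.1 (L.presheaf.germ U x.1 x.2 l) := rfl

theorem ratio_gen (x : X) :
    (ratio d).app (d x).W (d x).e = invSec _ (fun y => divisor_spec d (x := x) y) := by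
  refine Subtype.ext (funext fun z => ?_)
  show coef d z.1 (L.presheaf.germ (d x).W z.1 z.2 (d x).e) = _
  rw [← one_smul (X.presheaf.stalk z.1) (L.presheaf.germ (d x).W z.1 z.2 (d x).e), coef_eq d z.2,
    map_one, one_mul]
  rfl

theorem isIso_ratio : IsIso (ratio d) := by
  refine (isIso_iff_stalk _).2 fun z => ?_
  have hb := (d z).gen.bijective_germ z (d z).mem
  have hb' := (gen_invSec _ (fun y => divisor_spec d (x := z) y)).bijective_germ z (d z).mem
  have e : stalkLin (ratio d) z (L.presheaf.germ (d z).W z (d z).mem (d z).e) =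
      (Mero.divMod (divisor d)).presheaf.germ (d z).W z (d z).mem (invSec _ (fun y => divisor_spec d (x := z) y)) := by
    rw [stalkLin_germ, ratio_gen]
  constructor
  · intro a b hab
    obtain ⟨r, rfl⟩ := hb.2 a
    obtain ⟨r', rfl⟩ := hb.2 b
    dsimp only at hab
    rw [map_smul, map_smul, e] at hab
    rw [hb'.1 hab]
  · intro t
    obtain ⟨r, rfl⟩ := hb'.2 t
    exact ⟨r • L.presheaf.germ (d z).W z (d z).mem (d z).e, by rw [map_smul, e]⟩

theorem ratio_self (x : (⊤ : X.Opens)) : ((ratio d).app ⊤ σ).1 x = 1 := by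
  rw [ratio_apply, ← germ_eq_smul (d x.1) x.1 (d x.1).mem, coef_eq]
  refine (congrArg (· * _) (evalK_regUnit (d x.1).c (d x.1).reg ⟨x.1, (d x.1).mem⟩).symm).trans ?_
  rw [← map_mul, Units.mul_inv, map_one]

end Groth.Agent.MeroLib
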