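import Mathlib
import Groth.Agent.MeroLib.ZeroDiv
import Groth.Agent.MeroLib.RegPull
import Groth.Agent.S8863
import Groth.Agent.S10851

/-!
# Divisors on absolute curves
-/

set_option autoImplicit false
set_option maxHeartbeats 800000

universe u

open CategoryTheory AlgebraicGeometry TopologicalSpace

noncomputable section

namespace Groth.Agent.MeroLib

variable {X : Scheme.{u}}

theorem isUnit_of_dim_zero {y : X} (hy : ringKrullDim (X.presheaf.stalk y) ≤ 0) (a : X.presheaf.stalk y)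
    (ha : a ∈ nonZeroDivisors (X.presheaf.stalk y)) : IsUnit a := by
  haveI : Ring.KrullDimLE 0 (X.presheaf.stalk y) := Ring.krullDimLE_iff.mpr hy
  by_contra hs
  obtain ⟨n, hn⟩ : IsNilpotent a := by
    rw [← mem_nilradical, Ring.KrullDimLE.nilradical_eq_maximalIdeal]
    exact hs
  have h2 := pow_mem ha n
  rw [hn] at h2
  exact zero_notMem_nonZeroDivisors h2

theorem exists_closed_specialization [IsNoetherian X] (y : X) : ∃ c : X, IsClosed ({c} : Set X) ∧ y ⤳ c := by
  obtain ⟨c, hc, hc'⟩ := IsClosed.exists_closed_singleton (isClosed_closure (s := ({y} : Set X)))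
    ⟨y, subset_closure rfl⟩
  exact ⟨c, hc', specializes_iff_mem_closure.2 hc⟩

theorem dim_le_zero_of_not_closed [IsNoetherian X]
    (hX : ∀ x : X, IsClosed ({x} : Set X) → ringKrullDim (X.presheaf.stalk x) = 1) {y : X}
    (hy : ¬ IsClosed ({y} : Set X)) : ringKrullDim (X.presheaf.stalk y) ≤ 0 := by
  obtain ⟨c, hc, hyc⟩ := exists_closed_specialization y
  have hne : c ≠ y := fun h => hy (h ▸ hc)
  have h1 := hX c hc
  rw [ringKrullDim_stalk_eq_coheight] at h1 ⊢
  have hlt : c < y := lt_of_le_not_ge (show c ≤ y from hyc) fun h => hne (hyc.antisymm (show c ⤳ y from h)).symm.eq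
  have := Order.coheight_add_one_le hlt
  have h2 : Order.coheight c = 1 := WithBot.coe_inj.1 h1
  rw [h2] at this
  have h0 : Order.coheight y = 0 := by
    rcases eq_or_ne (Order.coheight y) 0 with h | h
    · exact h
    · have : (1 : ℕ∞) + 1 ≤ Order.coheight y + 1 := add_le_add_left (ENat.one_le_iff_ne_zero.2 h) 1
      have := this.trans ‹Order.coheight y + 1 ≤ 1›
      norm_num at this
  rw [h0]
  rfl

theorem isClosed_of_nonunit [IsNoetherian X]
    (hX : ∀ x : X, IsClosed ({x} : Set X) → ringKrullDim (X.presheaf.stalk x) = 1) {y : X}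
    (a : X.presheaf.stalk y) (ha : a ∈ nonZeroDivisors (X.presheaf.stalk y)) (hu : ¬ IsUnit a) :
    IsClosed ({y} : Set X) := by
  by_contra hy
  exact hu (isUnit_of_dim_zero (dim_le_zero_of_not_closed hX hy) a ha)

theorem finite_nonunit [IsNoetherian X]
    (hX : ∀ x : X, IsClosed ({x} : Set X) → ringKrullDim (X.presheaf.stalk x) = 1) {T : X.Opens}
    (hT : IsAffineOpen T) (f : Γ(X, T)) (hf : f ∈ Mero.regSub X T) :
    {y : X | ∃ hy : y ∈ T, ¬ IsUnit (X.presheaf.germ T y hy f)}.Finite := by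
  haveI : IsNoetherianRing Γ(X, T) := IsLocallyNoetherian.component_noetherian ⟨T, hT⟩
  have hfin := ((Ideal.span {f}).finite_minimalPrimes_of_isNoetherianRing Γ(X, T))
  refine ((hfin.preimage (f := PrimeSpectrum.asIdeal)
    (fun a _ b _ h => PrimeSpectrum.ext h)).image hT.fromSpec).subset ?_
  rintro y ⟨hy, hu⟩
  obtain ⟨q, rfl⟩ := hT.range_fromSpec.superset hy
  have hfq : f ∈ (q : PrimeSpectrum Γ(X, T)).asIdeal := by
    by_contra h
    exact hu ((isUnit_germ_fromSpec hT q hy f).2 h)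
  refine ⟨q, ⟨⟨(q : PrimeSpectrum Γ(X, T)).2, (Ideal.span_singleton_le_iff_mem _).2 hfq⟩, ?_⟩, rfl⟩
  rintro P ⟨hP, hle⟩ hPq
  let P' : PrimeSpectrum Γ(X, T) := ⟨P, hP⟩
  have hP' : hT.fromSpec P' ∈ T := hT.range_fromSpec.subset (Set.mem_range_self P')
  have hnu := (isUnit_germ_fromSpec hT P' hP' f).not.2 (not_not.2 ((Ideal.span_singleton_le_iff_mem _).1 hle))
  have hc := isClosed_of_nonunit hX _ (hf ⟨_, hP'⟩) hnu
  have hsp : hT.fromSpec P' ⤳ hT.fromSpec q :=
    ((PrimeSpectrum.le_iff_specializes P' q).1 hPq).map hT.fromSpec.continuous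
  have heq : hT.fromSpec q = hT.fromSpec P' := hsp.mem_closed hc rfl
  exact le_of_eq (congrArg PrimeSpectrum.asIdeal (hT.fromSpec.isOpenEmbedding.injective heq))

theorem exists_regular_fraction [IsLocallyNoetherian X] {W : X.Opens} (g : (Γ(Mero.kmod X, W))ˣ) (x : X) (hx : x ∈ W) :
    ∃ (T : X.Opens) (_ : IsAffineOpen T) (_ : x ∈ T) (hTW : T ≤ W) (m b : Mero.regSub X T), ∀ z : T,
      Mero.evalK X W ⟨z.1, hTW z.2⟩ g.val * algebraMap _ (Mero.KStalk X z.1) (X.presheaf.germ T z.1 z.2 b.1) =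
        algebraMap _ (Mero.KStalk X z.1) (X.presheaf.germ T z.1 z.2 m.1) := by
  obtain ⟨T₀, hT₀, i, m₀, b₀, hmb⟩ := g.val.2 ⟨x, hx⟩
  obtain ⟨T, hT, hxT, hle⟩ := exists_isAffineOpen_mem_and_subset hT₀
  have hTT : T ≤ T₀ := hle
  let b : Mero.regSub X T := ⟨X.presheaf.map (homOfLE hTT).op b₀.1, Mero.regSub_res _ b₀.2⟩
  let m := X.presheaf.map (homOfLE hTT).op m₀
  have hval : ∀ z : T, Mero.evalK X W ⟨z.1, leOfHom i (hTT z.2)⟩ g.val *
      algebraMap _ (Mero.KStalk X z.1) (X.presheaf.germ T z.1 z.2 b.1) =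
      algebraMap _ (Mero.KStalk X z.1) (X.presheaf.germ T z.1 z.2 m) := by
    intro z
    have h2 := hmb ⟨z.1, hTT z.2⟩
    dsimp only at h2
    show _ * algebraMap _ _ (X.presheaf.germ T z.1 z.2 (X.presheaf.map (homOfLE hTT).op b₀.1)) = _
    rw [TopCat.Presheaf.germ_res_apply, TopCat.Presheaf.germ_res_apply]
    refine (congrArg (· * _) h2).trans ?_
    exact (congrArg (· * _) (Localization.mk_eq_mk'_apply (M := Mero.regStalk X z.1) _ _)).trans
      (IsLocalization.mk'_spec (Mero.KStalk X z.1) _ _)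
  have hmreg : m ∈ Mero.regSub X T := fun z => by
    have hu : IsUnit (algebraMap _ (Mero.KStalk X z.1) (X.presheaf.germ T z.1 z.2 m)) := by
      rw [← hval z]
      exact ((Units.isUnit g).map _).mul (IsLocalization.map_units (Mero.KStalk X z.1) (Mero.regGerm z b))
    rw [mem_nonZeroDivisors_iff_right]
    intro r hr
    apply Mero.algebraMap_KStalk_injective (X := X) z.1
    rw [map_zero]
    refine hu.mul_left_eq_zero.1 ?_
    rw [← map_mul, hr, map_zero]
  exact ⟨T, hT, hxT, fun z hz => leOfHom i (hTT hz), ⟨m, hmreg⟩, b, hval⟩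

theorem mk_eq_one_of_isUnit {y : X} {u : (Mero.KStalk X y)ˣ} {m b : X.presheaf.stalk y} (hm : IsUnit m) (hb : IsUnit b)
    (h : (u : Mero.KStalk X y) * algebraMap _ (Mero.KStalk X y) b = algebraMap _ (Mero.KStalk X y) m) :
    (QuotientGroup.mk u : Mero.Germ X y) = 1 := by
  refine (QuotientGroup.eq_one_iff _).2 ⟨hm.unit * hb.unit⁻¹, Units.ext ?_⟩
  show algebraMap _ (Mero.KStalk X y) (m * ↑(hb.unit⁻¹)) = (u : Mero.KStalk X y)
  rw [map_mul, ← h, mul_assoc, ← map_mul, IsUnit.mul_val_inv, map_one, mul_one]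

theorem finite_supp [IsNoetherian X]
    (hX : ∀ x : X, IsClosed ({x} : Set X) → ringKrullDim (X.presheaf.stalk x) = 1) (D : Mero.Divisor X) :
    (Mero.supp D).Finite := by
  have hloc : ∀ x : X, ∃ T : X.Opens, x ∈ T ∧ (Mero.supp D ∩ T).Finite := by
    intro x
    obtain ⟨W, hxW, g, hg⟩ := D.2 x
    obtain ⟨T, hT, hxT, hTW, m, b, hmb⟩ := exists_regular_fraction g x hxW
    refine ⟨T, hxT, (finite_nonunit hX hT (m.1 * b.1) (Submonoid.mul_mem _ m.2 b.2)).subset ?_⟩
    rintro y ⟨hy, hyT⟩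
    refine ⟨hyT, fun hu => hy ?_⟩
    rw [map_mul, IsUnit.mul_iff] at hu
    rw [hg ⟨y, hTW hyT⟩]
    exact mk_eq_one_of_isUnit hu.1 hu.2 (hmb ⟨y, hyT⟩)
  choose T hxT hfin using hloc
  obtain ⟨t, ht⟩ := isCompact_univ.elim_finite_subcover (fun x => (T x : Set X)) (fun x => (T x).2)
    (fun x _ => Set.mem_iUnion.2 ⟨x, hxT x⟩)
  refine (t.finite_toSet.biUnion fun x _ => hfin x).subset fun y hy => ?_
  obtain ⟨x, hx, hyx⟩ := Set.mem_iUnion₂.1 (ht (Set.mem_univ y))
  exact Set.mem_iUnion₂.2 ⟨x, hx, hy, hyx⟩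

theorem isClosed_of_mem_supp [IsNoetherian X]
    (hX : ∀ x : X, IsClosed ({x} : Set X) → ringKrullDim (X.presheaf.stalk x) = 1) (D : Mero.Divisor X) {y : X}
    (hy : y ∈ Mero.supp D) : IsClosed ({y} : Set X) := by
  by_contra h
  have h1 := (S10851.result D y hy).trans (dim_le_zero_of_not_closed hX h)
  exact absurd h1 (by norm_num)

theorem mem_divisorGroup [IsNoetherian X]
    (hX : ∀ x : X, IsClosed ({x} : Set X) → ringKrullDim (X.presheaf.stalk x) = 1) (g : ∀ x : X, Mero.Germ X x)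
    (hfin : {x : X | g x ≠ 1}.Finite) (hcl : ∀ x : X, ¬ IsClosed ({x} : Set X) → g x = 1) :
    g ∈ Mero.divisorGroup X := by
  intro x
  have hclosed : ∀ S : Set X, S.Finite → (∀ y ∈ S, IsClosed ({y} : Set X)) → IsClosed S := fun S hS h => by
    rw [← Set.biUnion_of_singleton S]
    exact hS.isClosed_biUnion h
  by_cases hx : g x = 1
  · refine ⟨⟨{y : X | g y ≠ 1}ᶜ, (hclosed _ hfin fun y hy => by_contra fun h => hy (hcl y h)).isOpen_compl⟩,
      fun h => h hx, 1, fun y => ?_⟩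
    rw [Mero.germOf, map_one, QuotientGroup.mk_one]
    exact not_not.1 y.2
  · obtain ⟨u, hu⟩ := QuotientGroup.mk_surjective (g x)
    obtain ⟨⟨a, s⟩, has⟩ := IsLocalization.surj (Mero.regStalk X x) (u : Mero.KStalk X x)
    have ha : a ∈ Mero.regStalk X x := by
      rw [S8863.result X x, mem_nonZeroDivisors_iff_right]
      intro r hr
      apply Mero.algebraMap_KStalk_injective (X := X) x
      rw [map_zero]
      refine ((u.isUnit).mul (IsLocalization.map_units (Mero.KStalk X x) s)).mul_left_eq_zero.1 ?_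
      rw [has, ← map_mul, hr, map_zero]
    obtain ⟨U₁, hx₁, f₁, hf₁, hf₁'⟩ := ha
    obtain ⟨U₂, hx₂, f₂, hf₂, hf₂'⟩ := s.2
    obtain ⟨V, hV, hxV, hle⟩ := exists_isAffineOpen_mem_and_subset (show x ∈ U₁ ⊓ U₂ from ⟨hx₁, hx₂⟩)
    have hle₁ : V ≤ U₁ := fun z hz => (hle hz).1
    have hle₂ : V ≤ U₂ := fun z hz => (hle hz).2
    let m : Γ(X, V) := X.presheaf.map (homOfLE hle₁).op f₁
    let b : Γ(X, V) := X.presheaf.map (homOfLE hle₂).op f₂
    have hm : m ∈ Mero.regSub X V := Mero.regSub_res _ hf₁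
    have hb : b ∈ Mero.regSub X V := Mero.regSub_res _ hf₂
    let F : Set X := ({y : X | ∃ hy : y ∈ V, ¬ IsUnit (X.presheaf.germ V y hy (m * b))} ∪ {y : X | g y ≠ 1}) \ {x}
    have hF : IsClosed F := by
      refine hclosed F (((finite_nonunit hX hV (m * b) (Submonoid.mul_mem _ hm hb)).union hfin).sdiff) ?_
      rintro y ⟨hy | hy, -⟩
      · obtain ⟨hyV, hy⟩ := hy
        exact isClosed_of_nonunit hX _ ((Submonoid.mul_mem _ hm hb : m * b ∈ Mero.regSub X V) ⟨y, hyV⟩) hy
      · exact by_contra fun h => hy (hcl y h)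
    let V' : X.Opens := V ⊓ ⟨Fᶜ, hF.isOpen_compl⟩
    have hV' : V' ≤ V := inf_le_left
    have hxV' : x ∈ V' := ⟨hxV, fun h => h.2 rfl⟩
    let hh := regUnit (X.presheaf.map (homOfLE hV').op m) (Mero.regSub_res _ hm) *
      (regUnit (X.presheaf.map (homOfLE hV').op b) (Mero.regSub_res _ hb))⁻¹
    have hval : ∀ y : V', ((Units.map (Mero.evalK X V' y).toMonoidHom hh : (Mero.KStalk X y.1)ˣ) : Mero.KStalk X y.1) *
        algebraMap _ (Mero.KStalk X y.1) (X.presheaf.germ V y.1 (hV' y.2) b) =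
        algebraMap _ (Mero.KStalk X y.1) (X.presheaf.germ V y.1 (hV' y.2) m) := by
      intro y
      show Mero.evalK X V' y hh.val * _ = _
      rw [← TopCat.Presheaf.germ_res_apply X.presheaf (homOfLE hV') y.1 y.2 b,
        ← TopCat.Presheaf.germ_res_apply X.presheaf (homOfLE hV') y.1 y.2 m]
      refine (congrArg (_ * ·) (evalK_regUnit _ (Mero.regSub_res (homOfLE hV') hb) y).symm).trans ?_
      refine ((map_mul (Mero.evalK X V' y) _ _).symm.trans (congrArg _ ?_)).trans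
        (evalK_regUnit _ (Mero.regSub_res (homOfLE hV') hm) y)
      rw [Units.val_mul, mul_assoc, Units.inv_mul, mul_one]
    refine ⟨V', hxV', hh, fun y => ?_⟩
    by_cases hyx : y.1 = x
    · obtain rfl : y = ⟨x, hxV'⟩ := Subtype.ext hyx
      rw [← hu]
      refine congrArg QuotientGroup.mk (Units.ext ?_)
      refine (IsLocalization.map_units (Mero.KStalk X x) s).mul_left_injective ?_
      dsimp only
      rw [has, ← hf₁', ← hf₂']
      have := (hval ⟨x, hxV'⟩).symm
      rwa [TopCat.Presheaf.germ_res_apply, TopCat.Presheaf.germ_res_apply] at this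
    · have hyF : y.1 ∉ F := y.2.2
      have hgy : g y.1 = 1 := by_contra fun h => hyF ⟨Or.inr h, hyx⟩
      have hun : IsUnit (X.presheaf.germ V y.1 (hV' y.2) (m * b)) := by_contra fun h =>
        hyF ⟨Or.inl ⟨hV' y.2, h⟩, hyx⟩
      rw [map_mul, IsUnit.mul_iff] at hun
      rw [hgy]
      exact (mk_eq_one_of_isUnit hun.1 hun.2 (hval y)).symm

end Groth.Agent.MeroLib
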