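import Mathlib
import Groth.Agent.MeroLib.RegPull
import Groth.Agent.Depth.Basic

/-!
# Non-effective divisors are non-effective in depth one
-/

set_option autoImplicit false
set_option maxHeartbeats 800000

universe u

open CategoryTheory AlgebraicGeometry TopologicalSpace RingTheory.Sequence

namespace Groth.Agent.MeroLib

variable {X : Scheme.{u}}

theorem depth_eq_one {A : Type u} [CommRing A] [IsLocalRing A] [IsNoetherianRing A] (b : A)
    (hb : b ∈ IsLocalRing.maximalIdeal A) (hb' : b ∈ nonZeroDivisors A) (y : A) (hy : y ∉ Ideal.span {b})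
    (h : ∀ r ∈ IsLocalRing.maximalIdeal A, r * y ∈ Ideal.span {b}) : LocCoh.depth A A = 1 := by
  have hI : IsLocalRing.maximalIdeal A • (⊤ : Submodule A A) ≠ ⊤ := by
    rw [smul_eq_mul, Ideal.mul_top]
    exact (IsLocalRing.maximalIdeal.isMaximal A).ne_top
  have he : Ideal.ofList [b] • (⊤ : Submodule A A) = Ideal.span {b} := by
    rw [Ideal.ofList_singleton, smul_eq_mul, Ideal.mul_top]
  have hmax : Depth.IsMaxSeq (IsLocalRing.maximalIdeal A) A [b] := by
    refine ⟨(isWeaklyRegular_singleton_iff A b).2 ?_, by simpa using hb, y, ?_, fun r hr => ?_⟩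
    · intro u v huv
      simp only [smul_eq_mul] at huv
      have : b * (u - v) = 0 := by rw [mul_sub, huv, sub_self]
      exact sub_eq_zero.1 ((mul_right_mem_nonZeroDivisors_eq_zero_iff hb').1 ((mul_comm _ _).trans this))
    · rw [he]; exact hy
    · rw [he]; exact h r hr
  exact (Depth.idealDepth_eq_length hI hmax).trans (by simp)

/-- A maximal colon ideal inside a prime is prime. -/
theorem exists_prime_colon {R : Type u} [CommRing R] [IsNoetherianRing R] (b m : R) (q : Ideal R) [q.IsPrime]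
    (h : (Ideal.span {b}).colon {m} ≤ q) :
    ∃ s : R, ((Ideal.span {b}).colon {s * m}).IsPrime ∧ (Ideal.span {b}).colon {s * m} ≤ q := by
  have hc : ∀ s r : R, r ∈ (Ideal.span {b}).colon {s * m} ↔ r * (s * m) ∈ Ideal.span {b} := fun s r => by
    rw [Submodule.mem_colon_singleton, smul_eq_mul]
  let S : Set (Ideal R) := {P | ∃ s : R, P = (Ideal.span {b}).colon {s * m} ∧ P ≤ q}
  obtain ⟨P, ⟨s, rfl, hle⟩, hmax⟩ :=
    set_has_maximal_iff_noetherian.2 ‹_› S ⟨_, 1, rfl, by rwa [one_mul]⟩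
  have hbig : ∀ a a' : R, a * a' * (s * m) ∈ Ideal.span {b} → a ∉ (Ideal.span {b}).colon {s * m} →
      ∃ u, u ∉ q ∧ u * a' ∈ (Ideal.span {b}).colon {s * m} := by
    intro a a' haa ha
    by_contra hcon
    push Not at hcon
    refine hmax _ ⟨a' * s, rfl, fun u hu => by_contra fun huq => hcon u huq ?_⟩ (lt_of_le_of_ne ?_ fun he => ha ?_)
    · rw [hc] at hu ⊢; convert hu using 1; ring
    · intro r hr
      rw [hc] at hr ⊢
      convert Ideal.mul_mem_left _ a' hr using 1
      ring
    · rw [he, hc]; convert haa using 1; ring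
  refine ⟨s, ⟨fun he => ‹q.IsPrime›.ne_top (top_le_iff.1 (he ▸ hle)), fun {a a'} haa => ?_⟩, hle⟩
  by_contra hcon
  push Not at hcon
  obtain ⟨ha, ha'⟩ := hcon
  rw [hc] at haa
  obtain ⟨u, hu, hua'⟩ := hbig a a' haa ha
  obtain ⟨v, hv, hva⟩ := hbig a' a (by rwa [mul_comm a']) ha'
  refine hmax _ ⟨u * v * s, rfl, fun w hw => ?_⟩ (lt_of_le_of_ne ?_ fun he => ha' ?_)
  · have : w * (u * v) ∈ (Ideal.span {b}).colon {s * m} := by
      rw [hc] at hw ⊢; convert hw using 1; ring
    exact (‹q.IsPrime›.mem_or_mem (hle this)).resolve_right (‹q.IsPrime›.mul_notMem hu hv)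
  · intro r hr
    rw [hc] at hr ⊢
    convert Ideal.mul_mem_left _ (u * v) hr using 1
    ring
  · rw [he, hc]
    rw [hc] at hua'
    convert Ideal.mul_mem_left _ v hua' using 1
    ring

theorem regSub_of_isUnit_map {y : X} {a : X.presheaf.stalk y}
    (ha : IsUnit (algebraMap (X.presheaf.stalk y) (Mero.KStalk X y) a)) : a ∈ nonZeroDivisors (X.presheaf.stalk y) := by
  rw [mem_nonZeroDivisors_iff_right]
  intro r hr
  apply Mero.algebraMap_KStalk_injective (X := X) y
  rw [map_zero]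
  refine ha.mul_left_eq_zero.1 ?_
  rw [← map_mul, hr, map_zero]

theorem eq_one_of_isEffectiveAt (D : Mero.Divisor X) (x : X) (h : Mero.IsEffectiveAt D x)
    (h' : Mero.IsEffectiveAt D⁻¹ x) : D.1 x = 1 := by
  obtain ⟨a, ha⟩ := h
  obtain ⟨a', ha'⟩ := h'
  have h1 : (QuotientGroup.mk ((IsLocalization.map_units (Mero.KStalk X x) a).unit *
      (IsLocalization.map_units (Mero.KStalk X x) a').unit) : Mero.Germ X x) = 1 := by
    rw [QuotientGroup.mk_mul, ← ha, ← ha']
    show D.1 x * (D.1 x)⁻¹ = 1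
    exact mul_inv_cancel _
  obtain ⟨v, hv⟩ := (QuotientGroup.eq_one_iff _).1 h1
  have h2 : (v : X.presheaf.stalk x) = a.1 * a'.1 := by
    apply Mero.algebraMap_KStalk_injective (X := X) x
    rw [map_mul]
    exact congrArg Units.val hv
  have hu : IsUnit (a.1 * a'.1) := h2 ▸ v.isUnit
  obtain ⟨w, hw⟩ := (IsUnit.mul_iff.1 hu).1
  rw [ha, QuotientGroup.eq_one_iff]
  exact ⟨w, Units.ext (congrArg (algebraMap (X.presheaf.stalk x) (Mero.KStalk X x)) hw)⟩

/-- A point of non-effectivity generizes to one of depth one. -/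
theorem exists_depth_one [IsLocallyNoetherian X] (D : Mero.Divisor X) (x : X) (hx : ¬ Mero.IsEffectiveAt D x) :
    ∃ z : X, z ⤳ x ∧ LocCoh.depth (X.presheaf.stalk z) (X.presheaf.stalk z) = 1 ∧ ¬ Mero.IsEffectiveAt D z := by
  obtain ⟨W, hxW, g, hg⟩ := D.2 x
  obtain ⟨T₀, hT₀, i, m₀, b₀, hmb⟩ := g.val.2 ⟨x, hxW⟩
  obtain ⟨T, hT, hxT, hle⟩ := exists_isAffineOpen_mem_and_subset hT₀
  have hTT : T ≤ T₀ := hle
  haveI : IsNoetherianRing Γ(X, T) := IsLocallyNoetherian.component_noetherian ⟨T, hT⟩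
  let m := X.presheaf.map (homOfLE hTT).op m₀
  let b := X.presheaf.map (homOfLE hTT).op b₀.1
  have hbreg : b ∈ Mero.regSub X T := Mero.regSub_res _ b₀.2
  have hval : ∀ z : T, Mero.evalK X W ⟨z.1, leOfHom i (hTT z.2)⟩ g.val *
      algebraMap _ (Mero.KStalk X z.1) (X.presheaf.germ T z.1 z.2 b) =
      algebraMap _ (Mero.KStalk X z.1) (X.presheaf.germ T z.1 z.2 m) := by
    intro z
    have h2 := hmb ⟨z.1, hTT z.2⟩
    dsimp only at h2
    rw [TopCat.Presheaf.germ_res_apply, TopCat.Presheaf.germ_res_apply]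
    refine (congrArg (· * _) h2).trans ?_
    exact (congrArg (· * _) (Localization.mk_eq_mk'_apply (M := Mero.regStalk X z.1) _ _)).trans
      (IsLocalization.mk'_spec (Mero.KStalk X z.1) _ _)
  have hmreg : m ∈ Mero.regSub X T := fun z => by
    refine regSub_of_isUnit_map (X := X) ?_
    rw [← hval z]
    exact ((Units.isUnit g).map _).mul (IsLocalization.map_units (Mero.KStalk X z.1) (Mero.regGerm z ⟨b, hbreg⟩))
  have hkey : ∀ (q : PrimeSpectrum Γ(X, T)) (hq : hT.fromSpec q ∈ T),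
      (∀ u : Γ(X, T), u * m ∈ Ideal.span {b} → u ∈ q.asIdeal) ↔ ¬ Mero.IsEffectiveAt D (hT.fromSpec q) := by
    intro q hq
    letI : Algebra Γ(X, T) (X.presheaf.stalk (hT.fromSpec q)) :=
      TopCat.Presheaf.algebra_section_stalk X.presheaf (⟨hT.fromSpec q, hq⟩ : T)
    haveI : IsLocalization.AtPrime (X.presheaf.stalk (hT.fromSpec q)) q.asIdeal := hT.isLocalization_stalk' q hq
    have hW : hT.fromSpec q ∈ W := leOfHom i (hTT hq)
    constructor
    · rintro hu ⟨a, ha⟩
      rw [hg ⟨_, hW⟩] at ha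
      obtain ⟨v, hv⟩ := QuotientGroup.eq.mp ha.symm
      have hv' := congrArg Units.val hv
      rw [Units.val_mul] at hv'
      have h1 : X.presheaf.germ T _ hq m = a.1 * v * X.presheaf.germ T _ hq b := by
        apply Mero.algebraMap_KStalk_injective (X := X) (hT.fromSpec q)
        rw [← hval ⟨_, hq⟩, map_mul, map_mul]
        refine congrArg (· * _) ?_
        refine Eq.trans ?_ (congrArg (_ * ·) hv').symm
        rw [← mul_assoc, IsUnit.mul_val_inv, one_mul]
        rfl
      obtain ⟨c, s, hcs⟩ := IsLocalization.exists_mk'_eq q.asIdeal.primeCompl (a.1 * (v : X.presheaf.stalk (hT.fromSpec q)))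
      rw [← hcs] at h1
      have h2 : algebraMap Γ(X, T) (X.presheaf.stalk (hT.fromSpec q)) (m * s.1) =
          algebraMap Γ(X, T) (X.presheaf.stalk (hT.fromSpec q)) (c * b) := by
        rw [map_mul, map_mul, ← IsLocalization.mk'_spec (X.presheaf.stalk (hT.fromSpec q)) c s]
        show X.presheaf.germ T _ hq m * _ = _ * _ * X.presheaf.germ T _ hq b
        rw [h1]
        ring
      obtain ⟨t, ht⟩ := (IsLocalization.eq_iff_exists q.asIdeal.primeCompl _).1 h2
      refine (q.2.mul_notMem t.2 s.2) (hu (t.1 * s.1) ?_)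
      rw [Ideal.mem_span_singleton']
      exact ⟨t.1 * c, by rw [mul_assoc, ← ht]; ring⟩
    · intro hn u hu
      by_contra huq
      obtain ⟨r, hr⟩ := Ideal.mem_span_singleton'.1 hu
      obtain ⟨w, hw⟩ := (isUnit_germ_fromSpec hT q hq u).2 huq
      refine hn ?_
      have h1 : Mero.evalK X W ⟨_, hW⟩ g.val = algebraMap _ (Mero.KStalk X (hT.fromSpec q))
          ((↑(w⁻¹) : X.presheaf.stalk (hT.fromSpec q)) * X.presheaf.germ T _ hq r) := by
        refine ((IsLocalization.map_units (Mero.KStalk X (hT.fromSpec q))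
          (Mero.regGerm (⟨_, hq⟩ : T) ⟨b, hbreg⟩)).mul_left_injective ?_)
        show _ * algebraMap _ (Mero.KStalk X (hT.fromSpec q)) (X.presheaf.germ T _ hq b) =
          _ * algebraMap _ (Mero.KStalk X (hT.fromSpec q)) (X.presheaf.germ T _ hq b)
        rw [hval ⟨_, hq⟩, ← map_mul]
        refine congrArg _ ?_
        rw [mul_assoc, Units.eq_inv_mul_iff_mul_eq, hw, ← map_mul, ← map_mul, hr]
      let B := T ⊓ X.basicOpen u
      have hB : hT.fromSpec q ∈ B := ⟨hq, (X.mem_basicOpen u _ hq).2 (hw ▸ w.isUnit)⟩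
      have hrreg : X.presheaf.map (homOfLE (inf_le_left : B ≤ T)).op r ∈ Mero.regSub X B := fun z => by
        rw [TopCat.Presheaf.germ_res_apply]
        have hu' : IsUnit (X.presheaf.germ T z.1 z.2.1 u) := (X.mem_basicOpen u z.1 z.2.1).1 z.2.2
        have hmul := congrArg (X.presheaf.germ T z.1 z.2.1) hr
        rw [map_mul, map_mul] at hmul
        have := Submonoid.mul_mem _ (IsUnit.mem_nonZeroDivisors hu') (hmreg ⟨z.1, z.2.1⟩)
        rw [← hmul] at this
        exact (mul_mem_nonZeroDivisors.1 this).1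
      refine ⟨Mero.regGerm (⟨_, hB⟩ : B) ⟨_, hrreg⟩, ?_⟩
      rw [hg ⟨_, hW⟩]
      refine QuotientGroup.eq.mpr ⟨w, Units.ext ?_⟩
      rw [Units.val_mul]
      show algebraMap _ (Mero.KStalk X (hT.fromSpec q)) (w : X.presheaf.stalk (hT.fromSpec q)) =
        Mero.evalK X W ⟨_, hW⟩ (g⁻¹).val * algebraMap _ (Mero.KStalk X (hT.fromSpec q))
          (X.presheaf.germ B _ hB (X.presheaf.map (homOfLE (inf_le_left : B ≤ T)).op r))
      rw [TopCat.Presheaf.germ_res_apply]
      have h3 : algebraMap _ (Mero.KStalk X (hT.fromSpec q)) (X.presheaf.germ T _ hq r) =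
          Mero.evalK X W ⟨_, hW⟩ g.val * algebraMap _ (Mero.KStalk X (hT.fromSpec q)) (w : X.presheaf.stalk (hT.fromSpec q)) := by
        rw [h1, ← map_mul, mul_comm _ (w : X.presheaf.stalk (hT.fromSpec q)), Units.mul_inv_cancel_left]
      refine Eq.trans ?_ (congrArg (_ * ·) h3).symm
      rw [← mul_assoc, ← map_mul, Units.inv_mul, map_one, one_mul]
  obtain ⟨q, rfl⟩ := hT.range_fromSpec.superset hxT
  haveI := (q : PrimeSpectrum Γ(X, T)).2
  have hle' : (Ideal.span {b}).colon {m} ≤ (q : PrimeSpectrum Γ(X, T)).asIdeal := fun u hu => by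
    rw [Submodule.mem_colon_singleton, smul_eq_mul] at hu
    exact (hkey q hxT).2 hx u hu
  obtain ⟨s, hP, hPle⟩ := exists_prime_colon b m _ hle'
  let P : PrimeSpectrum Γ(X, T) := ⟨(Ideal.span {b}).colon {s * m}, hP⟩
  have hPT : hT.fromSpec P ∈ T := hT.range_fromSpec.subset (Set.mem_range_self P)
  refine ⟨hT.fromSpec P, ((PrimeSpectrum.le_iff_specializes P q).1 hPle).map hT.fromSpec.continuous, ?_,
    (hkey P hPT).1 fun u hu => ?_⟩
  · letI : Algebra Γ(X, T) (X.presheaf.stalk (hT.fromSpec P)) :=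
      TopCat.Presheaf.algebra_section_stalk X.presheaf (⟨hT.fromSpec P, hPT⟩ : T)
    haveI : IsLocalization.AtPrime (X.presheaf.stalk (hT.fromSpec P)) P.asIdeal := hT.isLocalization_stalk' P hPT
    haveI : IsNoetherianRing (X.presheaf.stalk (hT.fromSpec P)) :=
      IsLocalization.isNoetherianRing P.asIdeal.primeCompl _ inferInstance
    refine depth_eq_one (algebraMap Γ(X, T) (X.presheaf.stalk (hT.fromSpec P)) b) ?_ (hbreg ⟨_, hPT⟩)
      (algebraMap Γ(X, T) (X.presheaf.stalk (hT.fromSpec P)) (s * m)) ?_ ?_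
    · rw [IsLocalization.AtPrime.to_map_mem_maximal_iff (X.presheaf.stalk (hT.fromSpec P)) P.asIdeal b]
      show b ∈ (Ideal.span {b}).colon {s * m}
      rw [Submodule.mem_colon_singleton, smul_eq_mul]
      exact Ideal.mul_mem_right _ _ (Ideal.mem_span_singleton_self b)
    · intro hmem
      rw [← Set.image_singleton, ← Ideal.map_span, IsLocalization.algebraMap_mem_map_algebraMap_iff P.asIdeal.primeCompl] at hmem
      obtain ⟨t, ht, htm⟩ := hmem
      exact ht (show t ∈ (Ideal.span {b}).colon {s * m} by rw [Submodule.mem_colon_singleton, smul_eq_mul]; exact htm)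
    · intro r hr
      obtain ⟨c, d, rfl⟩ := IsLocalization.exists_mk'_eq P.asIdeal.primeCompl r
      have hc : c ∈ P.asIdeal := (IsLocalization.AtPrime.mk'_mem_maximal_iff (X.presheaf.stalk (hT.fromSpec P)) P.asIdeal c d).1 hr
      change c ∈ (Ideal.span {b}).colon {s * m} at hc
      rw [Submodule.mem_colon_singleton, smul_eq_mul] at hc
      obtain ⟨e, he⟩ := Ideal.mem_span_singleton'.1 hc
      rw [Ideal.mem_span_singleton']
      refine ⟨IsLocalization.mk' (X.presheaf.stalk (hT.fromSpec P)) e d, ?_⟩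
      refine (IsLocalization.map_units (X.presheaf.stalk (hT.fromSpec P)) d).mul_left_injective ?_
      dsimp only
      rw [mul_right_comm, IsLocalization.mk'_spec, mul_right_comm, IsLocalization.mk'_spec, ← map_mul, ← map_mul, he]
  · show u ∈ (Ideal.span {b}).colon {s * m}
    rw [Submodule.mem_colon_singleton, smul_eq_mul, mul_left_comm]
    exact Ideal.mul_mem_left _ _ hu

end Groth.Agent.MeroLib
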