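import Mathlib
import Groth.Agent.MeroLib.RegPull
import Groth.Agent.MeroLib.ZeroDiv

/-!
# Meromorphic functions on a reduced scheme and its maximal points
-/

set_option autoImplicit false
set_option maxHeartbeats 800000

universe u

open CategoryTheory AlgebraicGeometry TopologicalSpace

namespace Groth.Agent.MeroLib

variable {X : Scheme.{u}}

/-- `ξ` has no proper generization. -/
def IsMaxPt (ξ : X) : Prop := ∀ z : X, z ⤳ ξ → z = ξ

theorem isMaxPt_iff (ξ : X) : IsMaxPt ξ ↔ closure ({ξ} : Set X) ∈ irreducibleComponents X := by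
  constructor
  · intro h
    refine ⟨isIrreducible_singleton.closure, fun Z hZ hle => ?_⟩
    have hg := hZ.isGenericPoint_genericPoint_closure
    have hs : hZ.genericPoint ⤳ ξ :=
      hg.specializes (subset_closure (hle (subset_closure (Set.mem_singleton ξ))))
    intro z hz
    have := hg.def.ge (subset_closure hz)
    rwa [h _ hs] at this
  · intro h z hz
    have hle : closure ({ξ} : Set X) ⊆ closure {z} := hz.closure_subset
    have hge := h.2 (isIrreducible_singleton (x := z)).closure hle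
    exact (((specializes_iff_closure_subset (x := ξ) (y := z)).2 hge).antisymm hz).eq.symm

theorem isField_stalk [IsReduced X] {ξ : X} (hξ : IsMaxPt ξ) : IsField (X.presheaf.stalk ξ) := by
  refine ⟨⟨0, 1, zero_ne_one⟩, mul_comm, fun {a} ha => ?_⟩
  by_cases hu : IsUnit a
  · exact hu.exists_right_inv
  · exact absurd (isNilpotent_of_maximal ξ hξ hu).eq_zero ha

theorem bijective_KStalk [IsReduced X] {ξ : X} (hξ : IsMaxPt ξ) :
    Function.Bijective (algebraMap (X.presheaf.stalk ξ) (Mero.KStalk X ξ)) := by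
  letI := (isField_stalk hξ).toField
  refine ⟨Mero.algebraMap_KStalk_injective ξ, fun t => ?_⟩
  obtain ⟨a, s, rfl⟩ := IsLocalization.exists_mk'_eq (Mero.regStalk X ξ) t
  have hs : (s : X.presheaf.stalk ξ) ≠ 0 := fun h0 =>
    zero_notMem_nonZeroDivisors (h0 ▸ Mero.regStalk_le_nonZeroDivisors ξ s.2)
  refine ⟨a * (s : X.presheaf.stalk ξ)⁻¹, ?_⟩
  refine (IsLocalization.eq_mk'_iff_mul_eq).2 ?_
  rw [← map_mul, mul_assoc, inv_mul_cancel₀ hs, mul_one]

theorem isMaxPt_fromSpec {T : X.Opens} (hT : IsAffineOpen T) (q : PrimeSpectrum Γ(X, T))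
    (hq : q.asIdeal ∈ minimalPrimes Γ(X, T)) : IsMaxPt (hT.fromSpec q) :=
  fun z hz => eq_of_specializes_of_minimal hT q hq z hz

theorem minimal_of_isMaxPt {T : X.Opens} (hT : IsAffineOpen T) (q : PrimeSpectrum Γ(X, T))
    (hq : IsMaxPt (hT.fromSpec q)) : q.asIdeal ∈ minimalPrimes Γ(X, T) := by
  refine ⟨⟨q.2, bot_le⟩, fun p hp hle => ?_⟩
  have h : hT.fromSpec ⟨p, hp.1⟩ ⤳ hT.fromSpec q :=
    ((PrimeSpectrum.le_iff_specializes ⟨p, hp.1⟩ q).1 hle).map hT.fromSpec.continuous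
  have := hT.fromSpec.isOpenEmbedding.injective (hq _ h)
  exact (congrArg PrimeSpectrum.asIdeal this).ge

theorem finite_minimalPrimes {W : X.Opens}
    (hW : {Z : Set X | Z ∈ irreducibleComponents X ∧ (Z ∩ (W : Set X)).Nonempty}.Finite)
    {T : X.Opens} (hT : IsAffineOpen T) (hTW : T ≤ W) : (minimalPrimes Γ(X, T)).Finite := by
  refine Set.finite_coe_iff.1 (@Finite.of_injective _ _ hW.to_subtype
    (fun p : minimalPrimes Γ(X, T) => (⟨closure {hT.fromSpec ⟨p.1, p.2.1.1⟩},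
      (isMaxPt_iff _).1 (isMaxPt_fromSpec hT ⟨p.1, p.2.1.1⟩ p.2),
      ⟨hT.fromSpec ⟨p.1, p.2.1.1⟩, subset_closure rfl,
        hTW (hT.range_fromSpec.subset (Set.mem_range_self _))⟩⟩ :
      {Z : Set X | Z ∈ irreducibleComponents X ∧ (Z ∩ (W : Set X)).Nonempty})) fun p p' h => ?_)
  have h1 : closure {hT.fromSpec ⟨p.1, p.2.1.1⟩} = closure {hT.fromSpec ⟨p'.1, p'.2.1.1⟩} := congrArg Subtype.val h
  have h2 : hT.fromSpec ⟨p.1, p.2.1.1⟩ = hT.fromSpec ⟨p'.1, p'.2.1.1⟩ :=
    ((specializes_iff_closure_subset).2 h1.ge).antisymm ((specializes_iff_closure_subset).2 h1.le) |>.eq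
  exact Subtype.ext (congrArg PrimeSpectrum.asIdeal (hT.fromSpec.isOpenEmbedding.injective h2))

theorem mem_nonZeroDivisors_of_minimal {R : Type*} [CommRing R] [_root_.IsReduced R] {b : R}
    (h : ∀ p ∈ minimalPrimes R, b ∉ p) : b ∈ nonZeroDivisors R := by
  rw [mem_nonZeroDivisors_iff_right]
  intro a ha
  have : a ∈ sInf ((⊥ : Ideal R).minimalPrimes) := by
    rw [Ideal.mem_sInf]
    intro p hp
    exact (hp.1.1.mem_or_mem (ha ▸ p.zero_mem)).resolve_right (h p hp)
  rw [Ideal.sInf_minimalPrimes] at this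
  exact IsReduced.eq_zero a (mem_nilradical.1 this)

/-- A section of `K_X` vanishing at the maximal points vanishes. -/
theorem eq_zero_of_maxPt [IsReduced X] {U : X.Opens} (t : Γ(Mero.kmod X, U))
    (h : ∀ z : U, IsMaxPt z.1 → t.1 z = 0) : t = 0 := by
  refine Subtype.ext (funext fun x => ?_)
  obtain ⟨T₀, hT₀, i, m, b, hmb⟩ := t.2 x
  obtain ⟨T, hT, hxT, hle⟩ := exists_isAffineOpen_mem_and_subset hT₀
  have hTT : T ≤ T₀ := hle
  have hm : X.presheaf.map (homOfLE hTT).op m = 0 := by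
    by_contra hne
    have : X.presheaf.map (homOfLE hTT).op m ∉ sInf ((⊥ : Ideal Γ(X, T)).minimalPrimes) := by
      rw [Ideal.sInf_minimalPrimes]
      exact fun h => hne (IsReduced.eq_zero _ (mem_nilradical.1 h))
    rw [Ideal.mem_sInf] at this
    push Not at this
    obtain ⟨p, hp, hmp⟩ := this
    let q : PrimeSpectrum Γ(X, T) := ⟨p, hp.1.1⟩
    have hq : hT.fromSpec q ∈ T := hT.range_fromSpec.subset (Set.mem_range_self q)
    have hu := (isUnit_germ_fromSpec hT q hq _).2 hmp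
    rw [TopCat.Presheaf.germ_res_apply] at hu
    have h2 := hmb ⟨hT.fromSpec q, hTT hq⟩
    dsimp only at h2
    have h3 := h2.symm.trans (h _ (isMaxPt_fromSpec hT q hp))
    rw [← LocalizedModule.zero_mk (Mero.regGerm (⟨hT.fromSpec q, hTT hq⟩ : T₀) b), LocalizedModule.mk_eq] at h3
    obtain ⟨v, hv⟩ := h3
    simp only [smul_zero, Submonoid.smul_def, smul_eq_mul] at hv
    obtain ⟨w, hw⟩ := hu
    rw [← mul_assoc, ← hw, Units.mul_left_eq_zero] at hv
    have hn := Mero.regStalk_le_nonZeroDivisors _ (v * Mero.regGerm (⟨hT.fromSpec q, hTT hq⟩ : T₀) b).2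
    rw [Submonoid.coe_mul] at hn
    exact zero_notMem_nonZeroDivisors (Set.mem_of_eq_of_mem hv.symm hn)
  have h2 := hmb ⟨x.1, hT₀⟩
  dsimp only at h2
  refine h2.trans ((Mero.mk_congr ?_ rfl).trans (LocalizedModule.zero_mk (Mero.regGerm (⟨x.1, hT₀⟩ : T₀) b)))
  have e := congrArg (X.presheaf.germ T x.1 hxT) hm
  rw [TopCat.Presheaf.germ_res_apply, map_zero] at e
  exact e

theorem ext_maxPt [IsReduced X] {U : X.Opens} (t t' : Γ(Mero.kmod X, U))
    (h : ∀ z : U, IsMaxPt z.1 → t.1 z = t'.1 z) : t = t' := by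
  refine sub_eq_zero.1 (eq_zero_of_maxPt (t - t') fun z hz => ?_)
  have : Mero.evalK X U z (t - t') = Mero.evalK X U z t - Mero.evalK X U z t' := map_sub _ _ _
  exact this.trans (sub_eq_zero.2 (h z hz))

/-- Prescribing a fraction modulo finitely many incomparable primes. -/
theorem exists_fraction {R : Type*} [CommRing R] (P : Finset (Ideal R)) (hP : ∀ p ∈ P, p.IsPrime)
    (hne : ∀ p ∈ P, ∀ p' ∈ P, p ≤ p' → p = p') (a s : Ideal R → R) (hs : ∀ p ∈ P, s p ∉ p) :
    ∃ m b : R, ∀ p ∈ P, b ∉ p ∧ m * s p - a p * b ∈ p := by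
  classical
  have he : ∀ p ∈ P, ∃ e : R, e ∉ p ∧ ∀ p' ∈ P, p' ≠ p → e ∈ p' := fun p hp => by
    have : ¬ (P.erase p).inf id ≤ p := fun hle => by
      obtain ⟨p', hp', hle'⟩ := ((hP p hp).inf_le' (s := P.erase p) (f := id)).1 hle
      exact (Finset.mem_erase.1 hp').1 (hne p' (Finset.mem_erase.1 hp').2 p hp hle')
    obtain ⟨e, he, hep⟩ := SetLike.not_le_iff_exists.1 this
    rw [Submodule.mem_finsetInf] at he
    exact ⟨e, hep, fun p' hp' hne' => he p' (Finset.mem_erase.2 ⟨hne', hp'⟩)⟩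
  choose! e he1 he2 using he
  refine ⟨∑ p ∈ P, e p * a p, ∑ p ∈ P, e p * s p, fun p hp => ?_⟩
  have h1 : ∀ c : Ideal R → R, (∑ p' ∈ P, e p' * c p') - e p * c p ∈ p := fun c => by
    rw [← Finset.add_sum_erase P (fun p' => e p' * c p') hp, add_sub_cancel_left]
    refine p.sum_mem fun p' hp' => p.mul_mem_right _ ?_
    exact he2 p' (Finset.mem_erase.1 hp').2 p hp (Finset.mem_erase.1 hp').1.symm
  haveI := hP p hp
  refine ⟨fun hb => (hP p hp).mul_notMem (he1 p hp) (hs p hp) ?_, ?_⟩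
  · have := p.sub_mem hb (h1 s)
    rwa [sub_sub_cancel] at this
  · have := p.sub_mem (p.mul_mem_right (s p) (h1 a)) (p.mul_mem_left (a p) (h1 s))
    convert this using 1
    ring

/-- Local existence of a meromorphic function with prescribed values at the maximal points. -/
theorem exists_local_section [IsReduced X] (v : ∀ z : X, Mero.KStalk X z) {W : X.Opens}
    (hW : {Z : Set X | Z ∈ irreducibleComponents X ∧ (Z ∩ (W : Set X)).Nonempty}.Finite)
    {T : X.Opens} (hT : IsAffineOpen T) (hTW : T ≤ W) :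
    ∃ t : Γ(Mero.kmod X, T), ∀ z : T, IsMaxPt z.1 → t.1 z = v z.1 := by
  classical
  have hmem : ∀ q : PrimeSpectrum Γ(X, T), hT.fromSpec q ∈ T := fun q =>
    hT.range_fromSpec.subset (Set.mem_range_self q)
  have hval : ∀ q : PrimeSpectrum Γ(X, T), q.asIdeal ∈ minimalPrimes Γ(X, T) →
      ∃ a s : Γ(X, T), s ∉ q.asIdeal ∧
        algebraMap _ (Mero.KStalk X (hT.fromSpec q)) (X.presheaf.germ T _ (hmem q) a) =
          v (hT.fromSpec q) * algebraMap _ (Mero.KStalk X (hT.fromSpec q)) (X.presheaf.germ T _ (hmem q) s) :=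
    fun q hq => by
      obtain ⟨c, hc⟩ := (bijective_KStalk (isMaxPt_fromSpec hT q hq)).2 (v (hT.fromSpec q))
      letI : Algebra Γ(X, T) (X.presheaf.stalk (hT.fromSpec q)) :=
        TopCat.Presheaf.algebra_section_stalk X.presheaf (⟨hT.fromSpec q, hmem q⟩ : T)
      haveI : IsLocalization.AtPrime (X.presheaf.stalk (hT.fromSpec q)) q.asIdeal :=
        hT.isLocalization_stalk' q (hmem q)
      obtain ⟨a, s, rfl⟩ := IsLocalization.exists_mk'_eq q.asIdeal.primeCompl c
      refine ⟨a, s.1, s.2, ?_⟩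
      rw [← hc, ← map_mul]
      exact congrArg _ (IsLocalization.mk'_spec (X.presheaf.stalk (hT.fromSpec q)) a s).symm
  choose a s hs hv using hval
  let P := (finite_minimalPrimes hW hT hTW).toFinset
  let a' : Ideal Γ(X, T) → Γ(X, T) := fun p =>
    if h : p ∈ minimalPrimes Γ(X, T) then a ⟨p, h.1.1⟩ h else 0
  let s' : Ideal Γ(X, T) → Γ(X, T) := fun p =>
    if h : p ∈ minimalPrimes Γ(X, T) then s ⟨p, h.1.1⟩ h else 1
  obtain ⟨m, b, hmb⟩ := exists_fraction P (fun p hp => ((Set.Finite.mem_toFinset _).1 hp).1.1)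
    (fun p hp p' hp' hle => le_antisymm hle (((Set.Finite.mem_toFinset _).1 hp').2 ((Set.Finite.mem_toFinset _).1 hp).1 hle))
    a' s' (fun p hp => by
      have h := (Set.Finite.mem_toFinset _).1 hp
      simp only [s', dif_pos h]
      exact hs ⟨p, h.1.1⟩ h)
  have hb : b ∈ Mero.regSub X T := fun z =>
    germ_mem_nonZeroDivisors hT (mem_nonZeroDivisors_of_minimal fun p hp =>
      (hmb p ((Set.Finite.mem_toFinset _).2 hp)).1) z.1 z.2
  refine ⟨⟨fun z => LocalizedModule.mk (X.presheaf.germ T z.1 z.2 m) (Mero.regGerm z ⟨b, hb⟩),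
    fun z => ⟨T, z.2, 𝟙 _, m, ⟨b, hb⟩, fun _ => rfl⟩⟩, ?_⟩
  rintro ⟨z, hzT⟩ hz
  obtain ⟨q, rfl⟩ := hT.range_fromSpec.superset hzT
  have hq := minimal_of_isMaxPt hT q hz
  obtain ⟨-, hsub⟩ := hmb q.asIdeal ((Set.Finite.mem_toFinset _).2 hq)
  simp only [a', s', dif_pos hq] at hsub
  show LocalizedModule.mk (X.presheaf.germ T _ hzT m) (Mero.regGerm (⟨_, hzT⟩ : T) ⟨b, hb⟩) = v (hT.fromSpec q)
  have hzero : X.presheaf.germ T _ hzT (m * s q hq - a q hq * b) = 0 := by
    by_contra hne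
    exact (isUnit_germ_fromSpec hT q hzT _).not.2 (not_not.2 hsub)
      (letI := (isField_stalk hz).toField; IsUnit.mk0 _ hne)
  rw [map_sub, map_mul, map_mul, sub_eq_zero] at hzero
  refine (Localization.mk_eq_mk'_apply (M := Mero.regStalk X (hT.fromSpec q)) _ _).trans ?_
  refine IsLocalization.mk'_eq_iff_eq_mul.2 ?_
  have hsu : IsUnit (algebraMap _ (Mero.KStalk X (hT.fromSpec q)) (X.presheaf.germ T _ hzT (s q hq))) :=
    ((isUnit_germ_fromSpec hT q hzT _).2 (hs q hq)).map _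
  refine hsu.mul_left_injective ?_
  show algebraMap _ _ _ * _ = v _ * _ * _
  rw [mul_right_comm, ← hv q hq]
  exact (map_mul _ _ _).symm.trans ((congrArg _ hzero).trans (map_mul _ _ _))

end Groth.Agent.MeroLib
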