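import Mathlib
import Groth.Agent.MeroLib.Total

/-!
# Meromorphic functions from functions on dense opens
-/

set_option autoImplicit false
set_option maxHeartbeats 800000

universe u

open CategoryTheory AlgebraicGeometry TopologicalSpace

namespace Groth.Agent.MeroLib

variable {X : Scheme.{u}}

/-- Locally on `U` the open `V` contains the non-vanishing locus of a regular element. -/
def RegDense (U V : X.Opens) : Prop :=
  ∀ x ∈ U, ∃ N : X.Opens, x ∈ N ∧ ∀ W : X.Opens, IsAffineOpen W → W ≤ N → W ≤ U →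
    ∃ b ∈ nonZeroDivisors Γ(X, W), X.basicOpen b ≤ V

theorem toK_apply_eq {U : X.Opens} (r : Γ(X, U)) (z : U) :
    (Mero.toK X U r).1 z = algebraMap _ (Mero.KStalk X z.1) (X.presheaf.germ U z.1 z.2 r) :=
  (Localization.mk_eq_mk'_apply (M := Mero.regStalk X z.1) _ _).trans (IsLocalization.mk'_one _ _)

/-- A function killed on a dense open by a regular fraction vanishes. -/
theorem eq_zero_of_basicOpen {W : X.Opens} (hW : IsAffineOpen W) {b : Γ(X, W)} (hb : b ∈ nonZeroDivisors Γ(X, W))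
    (d : Γ(X, W)) (h : ∀ z : X, ∀ hz : z ∈ X.basicOpen b, X.presheaf.germ W z (X.basicOpen_le b hz) d = 0) :
    d = 0 := by
  have h0 : X.presheaf.map (homOfLE (X.basicOpen_le b)).op d = 0 := by
    refine TopCat.Presheaf.section_ext X.sheaf _ _ _ fun z hz => ?_
    refine (TopCat.Presheaf.germ_res_apply X.presheaf _ z hz d).trans ((h z hz).trans ?_)
    exact (map_zero _).symm
  obtain ⟨n, hn⟩ := AlgebraicGeometry.exists_pow_mul_eq_zero_of_res_basicOpen_eq_zero_of_isAffineOpen X hW d b h0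
  exact (mul_right_mem_nonZeroDivisors_eq_zero_iff ((nonZeroDivisors _).pow_mem hb n)).1 ((mul_comm _ _).trans hn)

theorem eq_zero_of_regDense {U V : X.Opens} (hd : RegDense U V) (t : Γ(Mero.kmod X, U))
    (h : ∀ z : U, z.1 ∈ V → t.1 z = 0) : t = 0 := by
  refine Subtype.ext (funext fun x => ?_)
  obtain ⟨T₀, hT₀, i, m, b, hmb⟩ := t.2 x
  obtain ⟨N, hxN, hN⟩ := hd x.1 x.2
  obtain ⟨T, hT, hxT, hle⟩ := exists_isAffineOpen_mem_and_subset (U := T₀ ⊓ N) (x := x.1) ⟨hT₀, hxN⟩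
  have hTT : T ≤ T₀ := fun z hz => (hle hz).1
  obtain ⟨c, hc, hcV⟩ := hN T hT (fun z hz => (hle hz).2) (hTT.trans (leOfHom i))
  have hm : X.presheaf.map (homOfLE hTT).op m = 0 := eq_zero_of_basicOpen hT hc _ fun z hz => by
    have hzT := X.basicOpen_le c hz
    rw [TopCat.Presheaf.germ_res_apply]
    have h2 := hmb ⟨z, hTT hzT⟩
    dsimp only at h2
    have h3 := h2.symm.trans (h _ (hcV hz))
    rw [← LocalizedModule.zero_mk (Mero.regGerm (⟨z, hTT hzT⟩ : T₀) b), LocalizedModule.mk_eq] at h3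
    obtain ⟨v, hv⟩ := h3
    simp only [smul_zero, Submonoid.smul_def, smul_eq_mul] at hv
    rw [← mul_assoc] at hv
    have hn := Mero.regStalk_le_nonZeroDivisors _ (v * Mero.regGerm (⟨z, hTT hzT⟩ : T₀) b).2
    rw [Submonoid.coe_mul] at hn
    exact (mul_right_mem_nonZeroDivisors_eq_zero_iff hn).1 ((mul_comm _ _).trans hv)
  have h2 := hmb ⟨x.1, hT₀⟩
  dsimp only at h2
  refine h2.trans ((Mero.mk_congr ?_ rfl).trans (LocalizedModule.zero_mk (Mero.regGerm (⟨x.1, hT₀⟩ : T₀) b)))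
  have e := congrArg (X.presheaf.germ T x.1 hxT) hm
  rw [TopCat.Presheaf.germ_res_apply, map_zero] at e
  exact e

theorem ext_regDense {U V : X.Opens} (hd : RegDense U V) (t t' : Γ(Mero.kmod X, U))
    (h : ∀ z : U, z.1 ∈ V → t.1 z = t'.1 z) : t = t' := by
  refine sub_eq_zero.1 (eq_zero_of_regDense hd (t - t') fun z hz => ?_)
  exact (map_sub (Mero.evalK X U z) t t').trans (sub_eq_zero.2 (h z hz))

theorem RegDense.mono {U U' V : X.Opens} (hd : RegDense U V) (h : U' ≤ U) : RegDense U' V := fun x hx => by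
  obtain ⟨N, hxN, hN⟩ := hd x (h hx)
  exact ⟨N, hxN, fun W hW hWN hWU => hN W hW hWN (hWU.trans h)⟩

theorem exists_extend_affine {W V : X.Opens} (hW : IsAffineOpen W) {b : Γ(X, W)} (hb : b ∈ nonZeroDivisors Γ(X, W))
    (hbV : X.basicOpen b ≤ V) (c : Γ(X, V)) :
    ∃ t : Γ(Mero.kmod X, W), ∀ (z : W) (hz : z.1 ∈ V),
      t.1 z = algebraMap _ (Mero.KStalk X z.1) (X.presheaf.germ V z.1 hz c) := by
  letI : Algebra Γ(X, W) Γ(X, X.basicOpen b) := (X.presheaf.map (homOfLE (X.basicOpen_le b)).op).hom.toAlgebra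
  haveI : IsLocalization.Away b Γ(X, X.basicOpen b) := hW.isLocalization_basicOpen b
  obtain ⟨⟨m, d⟩, hmd⟩ := IsLocalization.surj (Submonoid.powers b) (X.presheaf.map (homOfLE hbV).op c)
  have hd : (d : Γ(X, W)) ∈ nonZeroDivisors Γ(X, W) := by
    obtain ⟨n, hn⟩ := d.2
    rw [show (d : Γ(X, W)) = b ^ n from hn.symm]
    exact (nonZeroDivisors _).pow_mem hb n
  have hdr : (d : Γ(X, W)) ∈ Mero.regSub X W := fun z => germ_mem_nonZeroDivisors hW hd z.1 z.2
  refine ⟨⟨fun z => LocalizedModule.mk (X.presheaf.germ W z.1 z.2 m) (Mero.regGerm z ⟨d, hdr⟩),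
    fun z => ⟨W, z.2, 𝟙 _, m, ⟨d, hdr⟩, fun _ => rfl⟩⟩, ?_⟩
  rintro ⟨z, hzW⟩ hz
  refine (Localization.mk_eq_mk'_apply (M := Mero.regStalk X z) _ _).trans ?_
  refine IsLocalization.mk'_eq_iff_eq_mul.2 ?_
  rw [← map_mul]
  refine congrArg _ ?_
  obtain ⟨W', hW', hzW', hle⟩ := exists_isAffineOpen_mem_and_subset (U := W ⊓ V) (x := z) ⟨hzW, hz⟩
  have h1 : W' ≤ W := fun y hy => (hle hy).1
  have h2 : W' ≤ V := fun y hy => (hle hy).2
  let b' := X.presheaf.map (homOfLE h1).op b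
  let e := X.presheaf.map (homOfLE h1).op m -
    X.presheaf.map (homOfLE h2).op c * X.presheaf.map (homOfLE h1).op (d : Γ(X, W))
  have hloc : ∀ y : X, ∀ hy : y ∈ X.basicOpen b', X.presheaf.germ W' y (X.basicOpen_le b' hy) e = 0 := by
    intro y hy
    have hyb : y ∈ X.basicOpen b := by
      have := (X.basicOpen_res b (homOfLE h1).op).le hy
      exact this.2
    have hmd' := congrArg (X.presheaf.germ (X.basicOpen b) y hyb) hmd
    simp only [RingHom.algebraMap_toAlgebra, map_mul] at hmd'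
    erw [TopCat.Presheaf.germ_res_apply, TopCat.Presheaf.germ_res_apply, TopCat.Presheaf.germ_res_apply] at hmd'
    simp only [e, map_sub, map_mul, TopCat.Presheaf.germ_res_apply, sub_eq_zero]
    exact hmd'.symm
  have hmain : ∀ n : ℕ, X.presheaf.germ W' z hzW' (b' ^ n) ∈ nonZeroDivisors (X.presheaf.stalk z) := fun n => by
    rw [map_pow, TopCat.Presheaf.germ_res_apply]
    exact (nonZeroDivisors _).pow_mem (germ_mem_nonZeroDivisors hW hb z hzW) n
  have h0 : X.presheaf.map (homOfLE (X.basicOpen_le b')).op e = 0 := by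
    refine TopCat.Presheaf.section_ext X.sheaf _ _ _ fun y hy => ?_
    exact (TopCat.Presheaf.germ_res_apply X.presheaf _ y hy e).trans ((hloc y hy).trans (map_zero _).symm)
  obtain ⟨n, hn⟩ := AlgebraicGeometry.exists_pow_mul_eq_zero_of_res_basicOpen_eq_zero_of_isAffineOpen X hW' e b' h0
  have h3 := congrArg (X.presheaf.germ W' z hzW') hn
  rw [map_mul, map_zero, mul_comm] at h3
  have h4 := (mul_right_mem_nonZeroDivisors_eq_zero_iff (hmain n)).1 h3
  simp only [e, map_sub, map_mul, TopCat.Presheaf.germ_res_apply, sub_eq_zero] at h4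
  exact h4

/-- A function on a dense open is a meromorphic function. -/
theorem exists_extend {U V : X.Opens} (hd : RegDense U V) (c : Γ(X, V)) :
    ∃ t : Γ(Mero.kmod X, U), ∀ (z : U) (hz : z.1 ∈ V),
      t.1 z = algebraMap _ (Mero.KStalk X z.1) (X.presheaf.germ V z.1 hz c) := by
  choose N hxN hN using fun x : U => hd x.1 x.2
  choose W hW hxW hle using fun x : U =>
    exists_isAffineOpen_mem_and_subset (X := X) (U := U ⊓ N x) (x := x.1) ⟨x.2, hxN x⟩
  have hWU : ∀ x, W x ≤ U := fun x z hz => (hle x hz).1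
  choose b hb hbV using fun x => hN x (W x) (hW x) (fun z hz => (hle x hz).2) (hWU x)
  choose t ht using fun x => exists_extend_affine (hW x) (hb x) (hbV x) c
  obtain ⟨s, hs, -⟩ := TopCat.Sheaf.existsUnique_gluing'
    (⟨(Mero.kmod X).presheaf, (Mero.kmod X).isSheaf⟩ : TopCat.Sheaf Ab X) W U
    (fun x => homOfLE (hWU x)) (fun z hz => Opens.mem_iSup.2 ⟨⟨z, hz⟩, hxW ⟨z, hz⟩⟩) t (by
      intro i j
      refine ext_regDense (hd.mono (inf_le_left.trans (hWU i))) _ _ fun z hz => ?_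
      exact (ht i ⟨z.1, z.2.1⟩ hz).trans (ht j ⟨z.1, z.2.2⟩ hz).symm)
  refine ⟨s, fun z hz => ?_⟩
  exact (congrArg (fun r : Γ(Mero.kmod X, W z) => r.1 ⟨z.1, hxW z⟩) (hs z)).trans (ht z ⟨z.1, hxW z⟩ hz)

theorem exists_nonZeroDivisor_basicOpen_le {W : X.Opens} (hW : IsAffineOpen W) {V : X.Opens}
    {P : Set (Ideal Γ(X, W))} (hfin : P.Finite) (hP : ∀ p ∈ P, p.IsPrime)
    (hcov : ∀ a : Γ(X, W), (∀ p ∈ P, a ∉ p) → a ∈ nonZeroDivisors Γ(X, W))
    (hV : ∀ (p : Ideal Γ(X, W)) (hp : p ∈ P), hW.fromSpec ⟨p, hP p hp⟩ ∈ V) :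
    ∃ b ∈ nonZeroDivisors Γ(X, W), X.basicOpen b ≤ V := by
  let I : Ideal Γ(X, W) := PrimeSpectrum.vanishingIdeal (hW.fromSpec ⁻¹' (V : Set X))ᶜ
  have hI : ∀ q : PrimeSpectrum Γ(X, W), I ≤ q.asIdeal → hW.fromSpec q ∉ V := fun q hle => by
    have hq : q ∈ PrimeSpectrum.zeroLocus (I : Set Γ(X, W)) := hle
    rw [PrimeSpectrum.zeroLocus_vanishingIdeal_eq_closure] at hq
    exact ((V.2.preimage hW.fromSpec.continuous).isClosed_compl.closure_eq).le hq
  have hnot : ¬ (I : Set Γ(X, W)) ⊆ ⋃ p ∈ P, (p : Set Γ(X, W)) := fun hsub => by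
    obtain ⟨p, hp, hle⟩ := (Ideal.subset_union_prime_finite hfin ⊤ ⊤ (fun i hi _ _ => hP i hi)).1 hsub
    exact hI ⟨p, hP p hp⟩ hle (hV p hp)
  obtain ⟨b, hbI, hb⟩ := Set.not_subset.1 hnot
  refine ⟨b, hcov b fun p hp hbp => hb (Set.mem_biUnion hp hbp), fun z hz => ?_⟩
  obtain ⟨q, rfl⟩ := hW.range_fromSpec.superset (X.basicOpen_le b hz)
  by_contra hzV
  have hbq : b ∈ q.asIdeal := (PrimeSpectrum.mem_vanishingIdeal _ _).1 hbI q hzV
  exact (isUnit_germ_fromSpec hW q (X.basicOpen_le b hz) b).1 ((X.mem_basicOpen b _ (X.basicOpen_le b hz)).1 hz) hbq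

/-- Points cut out by annihilators lie in every schematically dense open. -/
theorem mem_of_schematicallyDense {W V : X.Opens} (hW : IsAffineOpen W)
    (hV : Function.Injective (X.presheaf.map (homOfLE (inf_le_left : W ⊓ V ≤ W)).op))
    (p : PrimeSpectrum Γ(X, W)) (z : Γ(X, W)) (hz : z ≠ 0) (hp : ∀ a ∈ p.asIdeal, a * z = 0) :
    hW.fromSpec p ∈ V := by
  by_contra hpV
  refine hz (hV ?_)
  rw [map_zero]
  refine TopCat.Presheaf.section_ext X.sheaf _ _ _ fun y hy => ?_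
  refine (TopCat.Presheaf.germ_res_apply X.presheaf _ y hy z).trans (Eq.trans ?_ (map_zero _).symm)
  obtain ⟨q, rfl⟩ := hW.range_fromSpec.superset hy.1
  have hnle : ¬ p.asIdeal ≤ (q : PrimeSpectrum Γ(X, W)).asIdeal := fun hle =>
    hpV ((((PrimeSpectrum.le_iff_specializes p q).1 hle).map hW.fromSpec.continuous).mem_open V.2 hy.2)
  obtain ⟨a, hap, haq⟩ := SetLike.not_le_iff_exists.1 hnle
  have h := congrArg (X.presheaf.germ W _ hy.1) (hp a hap)
  rw [map_mul, map_zero] at h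
  exact ((isUnit_germ_fromSpec hW q hy.1 a).2 haq).mul_right_eq_zero.1 h

end Groth.Agent.MeroLib
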