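import Mathlib
import Groth.Agent.MeroLib.ZeroDiv

/-!
# Frames of an invertible module inside `K_X`
-/

set_option autoImplicit false
set_option maxHeartbeats 1000000

universe u

open CategoryTheory CategoryTheory.Limits AlgebraicGeometry TopologicalSpace
open Groth.Agent.ParaFLib Groth.Agent.AmpleLib Groth.Agent.PullbackMod

noncomputable section

namespace Groth.Agent.MeroLib

variable {X : Scheme.{u}}

/-- A generator `e` together with a unit `g` of the meromorphic functions; `e` goes to `g⁻¹`. -/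
structure Frame (L : X.Modules) (x : X) where
  W : X.Opens
  mem : x ∈ W
  e : Γ(L, W)
  gen : Gen W e
  g : (Γ(Mero.kmod X, W))ˣ

namespace Frame

variable {L : X.Modules}

/-- Frames agree on overlaps. -/
def Compat (d : ∀ x : X, Frame L x) : Prop :=
  ∀ (x x' z : X) (hz : z ∈ (d x).W) (hz' : z ∈ (d x').W) (r r' : X.presheaf.stalk z),
    r • L.presheaf.germ (d x).W z hz (d x).e = r' • L.presheaf.germ (d x').W z hz' (d x').e →
    algebraMap _ (Mero.KStalk X z) r * Mero.evalK X (d x).W ⟨z, hz⟩ ((d x).g⁻¹).val =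
      algebraMap _ (Mero.KStalk X z) r' * Mero.evalK X (d x').W ⟨z, hz'⟩ ((d x').g⁻¹).val

variable (d : ∀ x : X, Frame L x) (hd : Compat d)

include hd in
lemma cls_eq {x : X} (y : (d x).W) :
    Mero.germOf (d y.1).g ⟨y.1, (d y.1).mem⟩ = Mero.germOf (d x).g y := by
  obtain ⟨t, ht⟩ := ((d x).gen.bijective_germ y.1 y.2).2 (L.presheaf.germ (d y.1).W y.1 (d y.1).mem (d y.1).e)
  obtain ⟨t', ht'⟩ := ((d y.1).gen.bijective_germ y.1 (d y.1).mem).2 (L.presheaf.germ (d x).W y.1 y.2 (d x).e)
  dsimp only at ht ht'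
  refine QuotientGroup.eq.mpr ⟨⟨t, t', ?_, ?_⟩, Units.ext ?_⟩
  · exact ((d y.1).gen.bijective_germ y.1 (d y.1).mem).1
      (show (t * t') • _ = (1 : X.presheaf.stalk y.1) • _ by rw [mul_smul, ht', ht, one_smul])
  · exact ((d x).gen.bijective_germ y.1 y.2).1
      (show (t' * t) • _ = (1 : X.presheaf.stalk y.1) • _ by rw [mul_smul, ht, ht', one_smul])
  · have h := hd x y.1 y.1 y.2 (d y.1).mem t 1 (by rw [one_smul, ht])
    rw [map_one, one_mul] at h
    rw [Units.val_mul]
    show algebraMap _ (Mero.KStalk X y.1) t =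
      Mero.evalK X (d y.1).W ⟨y.1, (d y.1).mem⟩ ((d y.1).g⁻¹).val * Mero.evalK X (d x).W y (d x).g.val
    rw [← h, mul_assoc, ← map_mul, Units.inv_mul, map_one, mul_one]

/-- The divisor with local equations `g`. -/
def divisor : Mero.Divisor X :=
  ⟨fun x => Mero.germOf (d x).g ⟨x, (d x).mem⟩, fun x =>
    ⟨(d x).W, (d x).mem, (d x).g, fun y => cls_eq d hd y⟩⟩

theorem divisor_spec {x : X} (y : (d x).W) : (divisor d hd).1 y.1 = Mero.germOf (d x).g y :=
  cls_eq d hd y

/-- The coefficient of a germ. -/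
def coef (x : X) : L.presheaf.stalk x →ₗ[X.presheaf.stalk x] Mero.KStalk X x :=
  ((LinearMap.toSpanSingleton (X.presheaf.stalk x) (Mero.KStalk X x)
      (Mero.evalK X (d x).W ⟨x, (d x).mem⟩ (((d x).g)⁻¹).val))).comp
    (LinearEquiv.ofBijective (LinearMap.toSpanSingleton (X.presheaf.stalk x) (L.presheaf.stalk x)
      (L.presheaf.germ (d x).W x (d x).mem (d x).e)) ((d x).gen.bijective_germ x (d x).mem)).symm.toLinearMap

include hd in
lemma coef_eq {x z : X} (hz : z ∈ (d x).W) (r : X.presheaf.stalk z) :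
    coef d z (r • L.presheaf.germ (d x).W z hz (d x).e) =
      algebraMap _ (Mero.KStalk X z) r *
        Mero.evalK X (d x).W ⟨z, hz⟩ (((d x).g)⁻¹).val := by
  let E := LinearEquiv.ofBijective (LinearMap.toSpanSingleton (X.presheaf.stalk z) (L.presheaf.stalk z)
      (L.presheaf.germ (d z).W z (d z).mem (d z).e)) ((d z).gen.bijective_germ z (d z).mem)
  obtain ⟨q, hq⟩ := E.surjective (r • L.presheaf.germ (d x).W z hz (d x).e)
  have hq' : q • L.presheaf.germ (d z).W z (d z).mem (d z).e = r • L.presheaf.germ (d x).W z hz (d x).e := hq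
  show E.symm (r • _) • Mero.evalK X (d z).W ⟨z, (d z).mem⟩ _ = _
  rw [← hq, LinearEquiv.symm_apply_apply, Algebra.smul_def]
  exact hd z x z (d z).mem hz q r hq'

/-- `l ↦ l / σ`. -/
def ratio : L ⟶ Mero.divMod (divisor d hd) :=
  ⟨PresheafOfModules.homMk (M₁ := L.val) (M₂ := (Mero.divMod (divisor d hd)).val)
    { app := fun U => AddCommGrpCat.ofHom
        { toFun := fun (l : Γ(L, U.unop)) => (⟨fun x => coef d x.1 (L.presheaf.germ U.unop x.1 x.2 l), by
            intro y
            obtain ⟨a, ha⟩ := ((d y.1).gen (U.unop ⊓ (d y.1).W) inf_le_right).2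
              (L.presheaf.map (homOfLE inf_le_left).op l)
            obtain ⟨T, hT, i, m, b, hmb⟩ := ((Mero.kLoc X).res (homOfLE (inf_le_right : U.unop ⊓ (d y.1).W ≤ (d y.1).W))
                _ (((d y.1).g)⁻¹).val.2) ⟨y.1, y.2, (d y.1).mem⟩
            refine ⟨T, hT, i ≫ homOfLE inf_le_left, X.presheaf.map i.op a * m, b, fun z => ?_⟩
            have hzU : z.1 ∈ U.unop ⊓ (d y.1).W := leOfHom i z.2
            have e1 : L.presheaf.germ U.unop z.1 hzU.1 l =
                X.presheaf.germ _ z.1 hzU a • L.presheaf.germ (d y.1).W z.1 hzU.2 (d y.1).e := by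
              rw [← TopCat.Presheaf.germ_res_apply L.presheaf (homOfLE (inf_le_left : U.unop ⊓ (d y.1).W ≤ U.unop)) z.1 hzU]
              refine (congrArg _ ha.symm).trans ?_
              rw [ParaFLib.germ_smul', TopCat.Presheaf.germ_res_apply]
            show coef d z.1 (L.presheaf.germ U.unop z.1 hzU.1 l) = _
            rw [e1, coef_eq d hd hzU.2]
            have h2 := hmb z
            refine (congrArg (_ * ·) h2).trans ?_
            rw [← Algebra.smul_def, LocalizedModule.smul'_mk]
            refine Mero.mk_congr ?_ rfl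
            rw [smul_eq_mul, map_mul, TopCat.Presheaf.germ_res_apply], fun z g hg => by
              obtain ⟨q, hq⟩ := ((d z.1).gen.bijective_germ z.1 (d z.1).mem).2 (L.presheaf.germ U.unop z.1 z.2 l)
              dsimp only at hq
              show coef d z.1 (L.presheaf.germ U.unop z.1 z.2 l) * (g : Mero.KStalk X z.1) ∈ _
              rw [show coef d z.1 (L.presheaf.germ U.unop z.1 z.2 l) = _ from (congrArg _ hq.symm).trans (coef_eq d hd _ q),
                mul_assoc]
              exact mul_mem ⟨q, rfl⟩ ((invSec _ fun y => divisor_spec d hd y).2.2 ⟨z.1, (d z.1).mem⟩ g hg)⟩ :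
            Γ(Mero.divMod (divisor d hd), U.unop))
          map_zero' := Subtype.ext <| funext fun x => by
            show coef d x.1 (L.presheaf.germ U.unop x.1 x.2 0) = 0
            rw [map_zero, map_zero]
          map_add' := fun a b => Subtype.ext <| funext fun x => by
            show coef d x.1 (L.presheaf.germ U.unop x.1 x.2 (a + b)) = _
            exact (congrArg (coef d x.1) (map_add (L.presheaf.germ U.unop x.1 x.2).hom a b)).trans
              (map_add (coef d x.1) _ _) }
      naturality := fun {U V} i => by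
        ext l
        exact Subtype.ext (funext fun x => congrArg (coef d x.1)
          (TopCat.Presheaf.germ_res_apply' L.presheaf i x.1 x.2 l)) }
    (fun U r l => Subtype.ext <| funext fun x => by
      show coef d x.1 (L.presheaf.germ U.unop x.1 x.2 (r • l)) = X.presheaf.germ U.unop x.1 x.2 r • _
      exact ((congrArg _ (ParaFLib.germ_smul' x.1 x.2 r l)).trans (map_smul (coef d x.1) _ _)))⟩

lemma ratio_apply {U : X.Opens} (l : Γ(L, U)) (x : U) :
    ((ratio d hd).app U l).1 x = coef d x.1 (L.presheaf.germ U x.1 x.2 l) := rfl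

theorem ratio_gen (x : X) :
    (ratio d hd).app (d x).W (d x).e = invSec _ (fun y => divisor_spec d hd (x := x) y) := by
  refine Subtype.ext (funext fun z => ?_)
  show coef d z.1 (L.presheaf.germ (d x).W z.1 z.2 (d x).e) = _
  rw [← one_smul (X.presheaf.stalk z.1) (L.presheaf.germ (d x).W z.1 z.2 (d x).e), coef_eq d hd z.2,
    map_one, one_mul]
  rfl

theorem isIso_ratio : IsIso (ratio d hd) := by
  refine (isIso_iff_stalk _).2 fun z => ?_
  have hb := (d z).gen.bijective_germ z (d z).mem
  have hb' := (gen_invSec _ (fun y => divisor_spec d hd (x := z) y)).bijective_germ z (d z).mem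
  have e : stalkLin (ratio d hd) z (L.presheaf.germ (d z).W z (d z).mem (d z).e) =
      (Mero.divMod (divisor d hd)).presheaf.germ (d z).W z (d z).mem (invSec _ (fun y => divisor_spec d hd (x := z) y)) := by
    rw [stalkLin_germ, ratio_gen]
  constructor
  · intro a b hab
    obtain ⟨r, rfl⟩ := hb.2 a
    obtain ⟨r', rfl⟩ := hb.2 b
    dsimp only at hab
    rw [map_smul, map_smul, e] at hab
    rw [hb'.1 hab]
  · intro t
    obtain ⟨r, rfl⟩ := hb'.2 t
    exact ⟨r • L.presheaf.germ (d z).W z (d z).mem (d z).e, by rw [map_smul, e]⟩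

/-- Compatible frames make `L` the module of a divisor. -/
theorem nonempty_iso (hd : Compat d) : Nonempty (L ≅ Mero.divMod (divisor d hd)) := by
  haveI := isIso_ratio d hd
  exact ⟨asIso (ratio d hd)⟩

/-- Frames from a regular meromorphic section `σ` with `σ = g • e`. -/
theorem compat_of_section (σ : Γ(Mero.merMod L, ⊤)) (hσ : Mero.IsRegularMero L σ)
    (h : ∀ (x : X) (z : (d x).W), σ.1 ⟨z.1, trivial⟩ =
      Mero.evalK X (d x).W z (d x).g.val • (LocalizedModule.mk (L.presheaf.germ (d x).W z.1 z.2 (d x).e) 1 : Mero.MStalk L z.1)) :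
    Compat d := fun x x' z hz hz' r r' he => by
  have key : ∀ (x : X) (hz : z ∈ (d x).W) (r : X.presheaf.stalk z),
      (algebraMap _ (Mero.KStalk X z) r * Mero.evalK X (d x).W ⟨z, hz⟩ ((d x).g⁻¹).val) • σ.1 ⟨z, trivial⟩ =
        r • (LocalizedModule.mk (L.presheaf.germ (d x).W z hz (d x).e) 1 : Mero.MStalk L z) := fun x hz r => by
    rw [h x ⟨z, hz⟩, smul_smul, mul_assoc]
    have e1 : Mero.evalK X (d x).W ⟨z, hz⟩ ((d x).g⁻¹).val * Mero.evalK X (d x).W ⟨z, hz⟩ (d x).g.val = 1 := by
      rw [← map_mul, Units.inv_mul, map_one]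
    refine (congrArg (fun c => (algebraMap _ (Mero.KStalk X z) r * c) •
      (LocalizedModule.mk (L.presheaf.germ (d x).W z hz (d x).e) 1 : Mero.MStalk L z)) e1).trans ?_
    rw [mul_one, algebraMap_smul]
  refine sub_eq_zero.1 (hσ z _ ?_)
  rw [sub_smul, key x hz r, key x' hz' r', LocalizedModule.smul'_mk, LocalizedModule.smul'_mk, he, sub_self]

end Frame

end Groth.Agent.MeroLib
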