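import Mathlib
import Groth.Agent.MeroLib.Extend
import Groth.Agent.MeroLib.Frame

/-!
# Divisors from a trivialization on a dense open
-/

set_option autoImplicit false
set_option maxHeartbeats 1000000

universe u

open CategoryTheory CategoryTheory.Limits AlgebraicGeometry TopologicalSpace
open Groth.Agent.ParaFLib Groth.Agent.AmpleLib Groth.Agent.MeroLib

noncomputable section

namespace Groth.Agent.MeroLib

variable {X : Scheme.{u}}

theorem exists_divisor_of_gen_dense {L : X.Modules} (hL : PicF.IsInvertible L) {O : X.Opens} {eO : Γ(L, O)}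
    (heO : Gen O eO) (hd : RegDense (⊤ : X.Opens) O) :
    ∃ D : Mero.Divisor X, Nonempty (L ≅ Mero.divMod D) := by
  classical
  choose W₁ e₁ hx₁ he₁ using fun x => exists_gen_nhd hL x
  choose a ha using fun x => (heO (W₁ x ⊓ O) inf_le_right).2 (L.presheaf.map (homOfLE inf_le_left).op (e₁ x))
  choose b hb using fun x => (he₁ x (W₁ x ⊓ O) inf_le_left).2 (L.presheaf.map (homOfLE inf_le_right).op eO)
  dsimp only at ha hb
  have hd' : ∀ x, RegDense (W₁ x) (W₁ x ⊓ O) := fun x z hz => by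
    obtain ⟨N, hzN, hN⟩ := hd z trivial
    refine ⟨N, hzN, fun T hT hTN hTW => ?_⟩
    obtain ⟨c, hc, hcO⟩ := hN T hT hTN le_top
    exact ⟨c, hc, le_inf ((X.basicOpen_le c).trans hTW) hcO⟩
  choose G hG using fun x => exists_extend (hd' x) (a x)
  choose G' hG' using fun x => exists_extend (hd' x) (b x)
  have hgg : ∀ x, G' x * G x = 1 := fun x => ext_regDense (hd' x) _ _ fun z hz => by
    show (G' x).1 z * (G x).1 z = 1
    rw [hG x z hz, hG' x z hz, ← map_mul, ← map_one (algebraMap (X.presheaf.stalk z.1) (Mero.KStalk X z.1))]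
    refine congrArg _ ((((he₁ x).res inf_le_left).bijective_germ z.1 hz).1 ?_)
    show (_ * _) • _ = (1 : X.presheaf.stalk z.1) • _
    rw [← map_mul, ← ParaFLib.germ_smul', mul_comm, mul_smul, hb, ha, one_smul]
  let d : ∀ x : X, Frame L x := fun x => ⟨W₁ x, hx₁ x, e₁ x, he₁ x,
    ⟨G' x, G x, hgg x, (mul_comm _ _).trans (hgg x)⟩⟩
  have hc : Frame.Compat d := by
    intro x x' z hz hz' r r' h
    obtain ⟨V, hzV, A, rfl⟩ := TopCat.Presheaf.exists_germ_eq X.presheaf r
    obtain ⟨V', hzV', A', rfl⟩ := TopCat.Presheaf.exists_germ_eq X.presheaf r'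
    let O₀ := V ⊓ V' ⊓ (W₁ x ⊓ W₁ x')
    have hzO : z ∈ O₀ := ⟨⟨hzV, hzV'⟩, hz, hz'⟩
    have o1 : O₀ ≤ V := fun y hy => hy.1.1
    have o2 : O₀ ≤ V' := fun y hy => hy.1.2
    have o3 : O₀ ≤ W₁ x := fun y hy => hy.2.1
    have o4 : O₀ ≤ W₁ x' := fun y hy => hy.2.2
    let R := X.presheaf.map (homOfLE o1).op A
    let R' := X.presheaf.map (homOfLE o2).op A'
    have h' : L.presheaf.germ O₀ z hzO (R • L.presheaf.map (homOfLE o3).op (e₁ x)) =
        L.presheaf.germ O₀ z hzO (R' • L.presheaf.map (homOfLE o4).op (e₁ x')) := by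
      rw [ParaFLib.germ_smul', ParaFLib.germ_smul']
      exact (congrArg₂ (· • ·) (TopCat.Presheaf.germ_res_apply _ _ _ _ A)
        (TopCat.Presheaf.germ_res_apply _ _ _ _ (e₁ x))).trans (h.trans
        (congrArg₂ (· • ·) (TopCat.Presheaf.germ_res_apply _ _ _ _ A')
          (TopCat.Presheaf.germ_res_apply _ _ _ _ (e₁ x'))).symm)
    obtain ⟨N, hzN, i1, i2, heq⟩ := TopCat.Presheaf.germ_eq L.presheaf z hzO hzO _ _ h'
    have hN : N ≤ O₀ := leOfHom i1
    let K : Γ(Mero.kmod X, N) := Mero.toK X N (X.presheaf.map (homOfLE hN).op R) *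
      (Mero.kmod X).presheaf.map (homOfLE (hN.trans o3)).op (G x)
    let K' : Γ(Mero.kmod X, N) := Mero.toK X N (X.presheaf.map (homOfLE hN).op R') *
      (Mero.kmod X).presheaf.map (homOfLE (hN.trans o4)).op (G x')
    have hK : K = K' := ext_regDense (hd.mono le_top) _ _ fun y hy => by
      have e := congrArg (L.presheaf.germ N y.1 y.2) heq
      rw [TopCat.Presheaf.germ_res_apply, TopCat.Presheaf.germ_res_apply, ParaFLib.germ_smul',
        ParaFLib.germ_smul'] at e
      have hy3 : y.1 ∈ W₁ x ⊓ O := ⟨o3 (hN y.2), hy⟩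
      have hy4 : y.1 ∈ W₁ x' ⊓ O := ⟨o4 (hN y.2), hy⟩
      show (Mero.toK X N _).1 y * (G x).1 ⟨y.1, _⟩ = (Mero.toK X N _).1 y * (G x').1 ⟨y.1, _⟩
      rw [hG x _ hy3, hG x' _ hy4, toK_apply_eq, toK_apply_eq]
      refine (map_mul (algebraMap (X.presheaf.stalk y.1) (Mero.KStalk X y.1)) _ _).symm.trans
        (Eq.trans (congrArg _ ((heO.bijective_germ y.1 hy).1 ?_))
          (map_mul (algebraMap (X.presheaf.stalk y.1) (Mero.KStalk X y.1)) _ _))
      have h1 : ∀ x (hy : y.1 ∈ W₁ x ⊓ O), X.presheaf.germ (W₁ x ⊓ O) y.1 hy (a x) • L.presheaf.germ O y.1 hy.2 eO =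
          L.presheaf.germ (W₁ x) y.1 hy.1 (e₁ x) := fun x hy => by
        rw [← TopCat.Presheaf.germ_res_apply L.presheaf (homOfLE (inf_le_right : W₁ x ⊓ O ≤ O)) y.1 hy,
          ← ParaFLib.germ_smul', ha, TopCat.Presheaf.germ_res_apply]
      show (_ * _) • _ = (_ * _) • _
      refine (mul_smul _ _ _).trans (Eq.trans ?_ (mul_smul _ _ _).symm)
      rw [h1 x hy3, h1 x' hy4]
      exact (congrArg₂ (· • ·) (TopCat.Presheaf.germ_res_apply _ _ _ _ R)
          (TopCat.Presheaf.germ_res_apply _ _ _ _ (e₁ x)).symm).trans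
        (e.trans (congrArg₂ (· • ·) (TopCat.Presheaf.germ_res_apply _ _ _ _ R').symm
          (TopCat.Presheaf.germ_res_apply _ _ _ _ (e₁ x'))))
    have hz2 := congrArg (fun t : Γ(Mero.kmod X, N) => t.1 ⟨z, hzN⟩) hK
    have hval : ∀ {B : Γ(X, O₀)} {c : X.presheaf.stalk z}, X.presheaf.germ O₀ z hzO B = c →
        (Mero.toK X N (X.presheaf.map (homOfLE hN).op B)).1 ⟨z, hzN⟩ = algebraMap _ (Mero.KStalk X z) c := by
      intro B c hc
      rw [← hc, ← TopCat.Presheaf.germ_res_apply X.presheaf (homOfLE hN) z hzN B]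
      exact toK_apply_eq _ _
    exact ((congrArg (· * _) (hval (TopCat.Presheaf.germ_res_apply _ _ _ _ A))).symm.trans hz2).trans
      (congrArg (· * _) (hval (TopCat.Presheaf.germ_res_apply _ _ _ _ A')))
  exact ⟨Frame.divisor d hc, Frame.nonempty_iso d hc⟩



end Groth.Agent.MeroLib
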