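import Mathlib
import Groth.Agent.MeroLib.Basic
import Groth.Agent.PullbackMod.Hom
import Groth.Agent.DCohLib.StalkTensor

/-!
# Multiplication of the fractional ideals of divisors
-/

set_option autoImplicit false
set_option maxHeartbeats 1000000

universe u

open CategoryTheory CategoryTheory.Limits AlgebraicGeometry TopologicalSpace
open Groth.Agent.ParaFLib Groth.Agent.AmpleLib Groth.Agent.PullbackMod Groth.Agent.DCohLib
open scoped TensorProduct

noncomputable section

namespace Groth.Agent.MeroLib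

variable {X : Scheme.{u}}

/-- A local equation of `D` near `x`. -/
structure DEq (D : Mero.Divisor X) (x : X) where
  W : X.Opens
  mem : x ∈ W
  g : (Γ(Mero.kmod X, W))ˣ
  hg : ∀ y : W, D.1 y.1 = Mero.germOf g y

def deq (D : Mero.Divisor X) (x : X) : DEq D x :=
  ⟨(D.2 x).choose, (D.2 x).choose_spec.choose, (D.2 x).choose_spec.choose_spec.choose,
    (D.2 x).choose_spec.choose_spec.choose_spec⟩

variable (D E : Mero.Divisor X)

/-- Evaluation on stalks. -/
def evalStalk (x : X) : (Mero.divMod D).presheaf.stalk x →ₗ[X.presheaf.stalk x] Mero.KStalk X x :=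
  (LinearMap.toSpanSingleton (X.presheaf.stalk x) (Mero.KStalk X x)
      (Mero.evalK X (deq D x).W ⟨x, (deq D x).mem⟩ ((deq D x).g⁻¹).val)).comp
    (LinearEquiv.ofBijective (LinearMap.toSpanSingleton (X.presheaf.stalk x) ((Mero.divMod D).presheaf.stalk x)
      ((Mero.divMod D).presheaf.germ (deq D x).W x (deq D x).mem (invSec (deq D x).g (deq D x).hg)))
      ((gen_invSec (deq D x).g (deq D x).hg).bijective_germ x (deq D x).mem)).symm.toLinearMap

theorem evalStalk_germ {U : X.Opens} (y : U) (t : Γ(Mero.divMod D, U)) :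
    evalStalk D y.1 ((Mero.divMod D).presheaf.germ U y.1 y.2 t) = t.1 y := by
  obtain ⟨y, hy⟩ := y
  let d := deq D y
  obtain ⟨a, ha⟩ := (gen_invSec d.g d.hg (U ⊓ d.W) inf_le_right).2
    ((Mero.divMod D).presheaf.map (homOfLE inf_le_left).op t)
  dsimp only at ha
  have hyV : y ∈ U ⊓ d.W := ⟨hy, d.mem⟩
  let E' := LinearEquiv.ofBijective (LinearMap.toSpanSingleton (X.presheaf.stalk y) ((Mero.divMod D).presheaf.stalk y)
      ((Mero.divMod D).presheaf.germ d.W y d.mem (invSec d.g d.hg)))
      ((gen_invSec d.g d.hg).bijective_germ y d.mem)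
  have h1 : E' (X.presheaf.germ _ y hyV a) = (Mero.divMod D).presheaf.germ U y hy t := by
    rw [← TopCat.Presheaf.germ_res_apply (Mero.divMod D).presheaf (homOfLE (inf_le_left : U ⊓ d.W ≤ U)) y hyV t,
      ← ha, ParaFLib.germ_smul', TopCat.Presheaf.germ_res_apply]
    rfl
  show E'.symm _ • Mero.evalK X d.W ⟨y, d.mem⟩ _ = _
  rw [← h1, LinearEquiv.symm_apply_apply]
  exact congrArg (fun s : Γ(Mero.divMod D, U ⊓ d.W) => s.1 ⟨y, hyV⟩) ha

/-- Multiplication on stalks. -/
def mulStalk (x : X) : (tmod (Mero.divMod D) (Mero.divMod E)).presheaf.stalk x →ₗ[X.presheaf.stalk x]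
    Mero.KStalk X x :=
  ((LinearMap.mul' (X.presheaf.stalk x) (Mero.KStalk X x)).comp
    (TensorProduct.map (evalStalk D x) (evalStalk E x))).comp (stalkTensorInv x _ _)

theorem mulStalk_germ {U : X.Opens} (y : U) (t : Γ(Mero.divMod D, U)) (t' : Γ(Mero.divMod E, U)) :
    mulStalk D E y.1 ((tmod (Mero.divMod D) (Mero.divMod E)).presheaf.germ U y.1 y.2 (pairS _ _ t t')) =
      t.1 y * t'.1 y := by
  simp only [mulStalk, LinearMap.comp_apply, stalkTensorInv_germ, TensorProduct.map_tmul, evalStalk_germ,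
    LinearMap.mul'_apply]

/-- The open on which both divisors have equations. -/
def com (x : X) : X.Opens := (deq D x).W ⊓ (deq E x).W

lemma mem_com (x : X) : x ∈ com D E x := ⟨(deq D x).mem, (deq E x).mem⟩

/-- The tensor of the two generators near `x`. -/
def gen₀ (x : X) : Γ(tmod (Mero.divMod D) (Mero.divMod E), com D E x) :=
  pairS _ _ ((Mero.divMod D).presheaf.map (homOfLE inf_le_left).op (invSec (deq D x).g (deq D x).hg))
    ((Mero.divMod E).presheaf.map (homOfLE inf_le_right).op (invSec (deq E x).g (deq E x).hg))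

lemma gen_gen₀ (x : X) : Gen (com D E x) (gen₀ D E x) :=
  gen_pairS ((gen_invSec _ (deq D x).hg).res inf_le_left) ((gen_invSec _ (deq E x).hg).res inf_le_right)

/-- The product equation. -/
def prodUnit (x : X) : (Γ(Mero.kmod X, com D E x))ˣ :=
  Units.map ((Mero.kring X).obj.map (homOfLE (inf_le_left : com D E x ≤ (deq D x).W)).op).hom.toMonoidHom (deq D x).g *
    Units.map ((Mero.kring X).obj.map (homOfLE (inf_le_right : com D E x ≤ (deq E x).W)).op).hom.toMonoidHom (deq E x).g

lemma prodUnit_spec (x : X) (y : com D E x) : (D * E).1 y.1 = Mero.germOf (prodUnit D E x) y := by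
  show D.1 y.1 * E.1 y.1 = _
  rw [(deq D x).hg ⟨y.1, y.2.1⟩, (deq E x).hg ⟨y.1, y.2.2⟩, Mero.germOf, Mero.germOf, Mero.germOf,
    ← QuotientGroup.mk_mul]
  exact congrArg _ (Units.ext rfl)

lemma invSec_prod (x : X) (y : com D E x) :
    (invSec (prodUnit D E x) (prodUnit_spec D E x)).1 y =
      (invSec (deq D x).g (deq D x).hg).1 ⟨y.1, y.2.1⟩ * (invSec (deq E x).g (deq E x).hg).1 ⟨y.1, y.2.2⟩ := by
  show Mero.evalK X _ y ((prodUnit D E x)⁻¹).val = _
  refine ((congrArg (fun t : (Γ(Mero.kmod X, com D E x))ˣ => Mero.evalK X _ y t.val)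
    (mul_inv (Units.map ((Mero.kring X).obj.map (homOfLE (inf_le_left : com D E x ≤ (deq D x).W)).op).hom.toMonoidHom (deq D x).g)
      (Units.map ((Mero.kring X).obj.map (homOfLE (inf_le_right : com D E x ≤ (deq E x).W)).op).hom.toMonoidHom (deq E x).g))).trans
    (map_mul (Mero.evalK X _ y) _ _))

lemma mulStalk_smul_gen₀ {x : X} (y : com D E x) (r : X.presheaf.stalk y.1) :
    mulStalk D E y.1 (r • (tmod (Mero.divMod D) (Mero.divMod E)).presheaf.germ _ y.1 y.2 (gen₀ D E x)) =
      r • (invSec (prodUnit D E x) (prodUnit_spec D E x)).1 y := by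
  rw [map_smul]
  refine congrArg (r • ·) ?_
  exact (mulStalk_germ D E y _ _).trans (invSec_prod D E x y).symm

/-- Multiplication `O(D) ⊗ O(E) → O(D·E)`. -/
def mulHom : tmod (Mero.divMod D) (Mero.divMod E) ⟶ Mero.divMod (D * E) :=
  ⟨PresheafOfModules.homMk (M₁ := (tmod (Mero.divMod D) (Mero.divMod E)).val) (M₂ := (Mero.divMod (D * E)).val)
    { app := fun U => AddCommGrpCat.ofHom
        { toFun := fun (z : Γ(tmod (Mero.divMod D) (Mero.divMod E), U.unop)) => (⟨fun y => mulStalk D E y.1
              ((tmod (Mero.divMod D) (Mero.divMod E)).presheaf.germ U.unop y.1 y.2 z), by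
            refine (Mero.divLoc X (D * E)).locality _ fun y => ?_
            have hle : U.unop ⊓ com D E y.1 ≤ com D E y.1 := inf_le_right
            obtain ⟨a, ha⟩ := (gen_gen₀ D E y.1 (U.unop ⊓ com D E y.1) hle).2
              ((tmod (Mero.divMod D) (Mero.divMod E)).presheaf.map (homOfLE inf_le_left).op z)
            dsimp only at ha
            refine ⟨U.unop ⊓ com D E y.1, ⟨y.2, mem_com D E y.1⟩, homOfLE inf_le_left, ?_⟩
            have hp := (a • (Mero.divMod (D * E)).presheaf.map (homOfLE hle).op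
              (invSec (prodUnit D E y.1) (prodUnit_spec D E y.1))).2
            refine cast (congrArg _ (funext fun w => ?_)) hp
            refine ((mulStalk_smul_gen₀ D E ⟨w.1, hle w.2⟩ (X.presheaf.germ _ w.1 w.2 a)).symm.trans ?_)
            refine congrArg (mulStalk D E w.1) ?_
            refine Eq.trans ?_ ((congrArg ((tmod (Mero.divMod D) (Mero.divMod E)).presheaf.germ _ w.1 w.2) ha).trans
              (TopCat.Presheaf.germ_res_apply _ (homOfLE (inf_le_left : U.unop ⊓ com D E y.1 ≤ U.unop)) w.1 w.2 z))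
            exact ((ParaFLib.germ_smul' w.1 w.2 a _).trans (congrArg _
              (TopCat.Presheaf.germ_res_apply _ (homOfLE hle) w.1 w.2 (gen₀ D E y.1)))).symm⟩ :
            Γ(Mero.divMod (D * E), U.unop))
          map_zero' := Subtype.ext <| funext fun y =>
            (congrArg (mulStalk D E y.1) (map_zero ((tmod (Mero.divMod D) (Mero.divMod E)).presheaf.germ U.unop y.1 y.2).hom)).trans
              (map_zero _)
          map_add' := fun a b => Subtype.ext <| funext fun y =>
            (congrArg (mulStalk D E y.1)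
              (map_add ((tmod (Mero.divMod D) (Mero.divMod E)).presheaf.germ U.unop y.1 y.2).hom a b)).trans
              (map_add (mulStalk D E y.1) _ _) }
      naturality := fun {U V} i => by
        ext z
        exact Subtype.ext (funext fun y => congrArg (mulStalk D E y.1)
          (TopCat.Presheaf.germ_res_apply' (tmod (Mero.divMod D) (Mero.divMod E)).presheaf i y.1 y.2 z)) }
    (fun U r z => Subtype.ext <| funext fun y =>
      ((congrArg _ (ParaFLib.germ_smul' y.1 y.2 r z)).trans (map_smul (mulStalk D E y.1) _ _)))⟩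

theorem mulHom_pairS {U : X.Opens} (t : Γ(Mero.divMod D, U)) (t' : Γ(Mero.divMod E, U)) (y : U) :
    ((mulHom D E).app U (pairS _ _ t t')).1 y = t.1 y * t'.1 y :=
  mulStalk_germ D E y t t'

theorem isIso_mulHom : IsIso (mulHom D E) := by
  refine (isIso_iff_stalk _).2 fun z => ?_
  have hb := (gen_gen₀ D E z).bijective_germ z (mem_com D E z)
  have hb' := (gen_invSec _ (prodUnit_spec D E z)).bijective_germ z (mem_com D E z)
  have e : stalkLin (mulHom D E) z ((tmod (Mero.divMod D) (Mero.divMod E)).presheaf.germ _ z (mem_com D E z) (gen₀ D E z)) =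
      (Mero.divMod (D * E)).presheaf.germ _ z (mem_com D E z) (invSec _ (prodUnit_spec D E z)) := by
    rw [stalkLin_germ]
    refine congrArg _ (Subtype.ext (funext fun y => ?_))
    exact (mulStalk_germ D E y _ _).trans (invSec_prod D E z y).symm
  constructor
  · intro a b hab
    obtain ⟨r, rfl⟩ := hb.2 a
    obtain ⟨r', rfl⟩ := hb.2 b
    dsimp only at hab
    rw [map_smul, map_smul, e] at hab
    rw [hb'.1 hab]
  · intro t
    obtain ⟨r, rfl⟩ := hb'.2 t
    exact ⟨r • (tmod (Mero.divMod D) (Mero.divMod E)).presheaf.germ _ z (mem_com D E z) (gen₀ D E z),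
      by rw [map_smul, e]⟩

end Groth.Agent.MeroLib
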