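import Mathlib
import Groth.Agent.MeroLib.Frame

/-!
# The meromorphic section of `O_X(D)`
-/

set_option autoImplicit false
set_option maxHeartbeats 1000000

universe u

open CategoryTheory CategoryTheory.Limits AlgebraicGeometry TopologicalSpace
open Groth.Agent.ParaFLib Groth.Agent.AmpleLib Groth.Agent.MeroLib

namespace Groth.Agent.MeroLib

variable {X : Scheme.{u}}

lemma aux' {K : Type*} [CommRing K] (a a' b b' t : K) (e1 : a' * a = 1) (e2 : b' * b = 1)
    (h2 : t * b' = a') : a * t = b := by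
  linear_combination (b * a) * h2 + b * e1 - (a * t) * e2

theorem hasRegularMero_of_iso {L : X.Modules} {D : Mero.Divisor X} (i : L ≅ Mero.divMod D) :
    Mero.HasRegularMero L := by
  have hg : ∀ x : X, ∃ (W : X.Opens) (_ : x ∈ W) (g : (Γ(Mero.kmod X, W))ˣ) (e : Γ(L, W)), Gen W e ∧
      (∀ y : W, D.1 y.1 = Mero.germOf g y) ∧ ∀ (O : X.Opens) (hO : O ≤ W) (r : Γ(X, O)) (y : O),
        (i.hom.app O (r • L.presheaf.map (homOfLE hO).op e)).1 y =
          algebraMap _ (Mero.KStalk X y.1) (X.presheaf.germ O y.1 y.2 r) *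
            Mero.evalK X W ⟨y.1, hO y.2⟩ (g⁻¹).val := by
    intro x
    obtain ⟨W, hx, g, hg⟩ := D.2 x
    let t₀ := invSec g hg
    let e : Γ(L, W) := i.inv.app W t₀
    have hres : ∀ (O : X.Opens) (hO : O ≤ W), L.presheaf.map (homOfLE hO).op e =
        i.inv.app O ((Mero.divMod D).presheaf.map (homOfLE hO).op t₀) := fun O hO =>
      (ConcreteCategory.congr_hom (i.inv.mapPresheaf.naturality (homOfLE hO).op) t₀).symm
    have hh : ∀ (O : X.Opens) (t : Γ(Mero.divMod D, O)), i.hom.app O (i.inv.app O t) = t := fun O t =>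
      ConcreteCategory.congr_hom (congrArg (fun φ => Scheme.Modules.Hom.app φ O) i.inv_hom_id) t
    have hi : ∀ (O : X.Opens) (t : Γ(L, O)), i.inv.app O (i.hom.app O t) = t := fun O t =>
      ConcreteCategory.congr_hom (congrArg (fun φ => Scheme.Modules.Hom.app φ O) i.hom_inv_id) t
    refine ⟨W, hx, g, e, fun O hO => ?_, hg, fun O hO r y => ?_⟩
    · have : (fun r : Γ(X, O) => r • L.presheaf.map (homOfLE hO).op e) =
          (fun t => i.inv.app O t) ∘ fun r : Γ(X, O) => r • (Mero.divMod D).presheaf.map (homOfLE hO).op t₀ :=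
        funext fun r => by
          show _ = i.inv.app O (r • _)
          rw [Scheme.Modules.Hom.app_smul, hres O hO]
      rw [this]
      exact (Function.bijective_iff_has_inverse.2 ⟨fun t => i.hom.app O t, hh O, hi O⟩).comp (gen_invSec g hg O hO)
    · rw [Scheme.Modules.Hom.app_smul, hres O hO, hh]
      exact Algebra.smul_def _ _
  choose W hxW g e he hgD hcomp using hg
  let v : ∀ x : X, Mero.MStalk L x := fun x =>
    Mero.evalK X (W x) ⟨x, hxW x⟩ (g x).val •
      LocalizedModule.mk (L.presheaf.germ (W x) x (hxW x) (e x)) 1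
  have hv : ∀ (x : X) (z : W x), v z.1 = Mero.evalK X (W x) z (g x).val •
      LocalizedModule.mk (L.presheaf.germ (W x) z.1 z.2 (e x)) 1 := fun x z => by
    let O := W z.1 ⊓ W x
    have hzO : z.1 ∈ O := ⟨hxW z.1, z.2⟩
    obtain ⟨t, ht⟩ := (he x O inf_le_right).2 (L.presheaf.map (homOfLE (inf_le_left : O ≤ W z.1)).op (e z.1))
    dsimp only at ht
    have h1 := hcomp x O inf_le_right t ⟨z.1, hzO⟩
    have h2 := hcomp z.1 O inf_le_left 1 ⟨z.1, hzO⟩
    rw [ht] at h1
    rw [one_smul, map_one, map_one, one_mul] at h2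
    rw [h1] at h2
    have ht' : L.presheaf.germ (W z.1) z.1 (hxW z.1) (e z.1) =
        X.presheaf.germ O z.1 hzO t • L.presheaf.germ (W x) z.1 z.2 (e x) := by
      rw [← TopCat.Presheaf.germ_res_apply L.presheaf (homOfLE (inf_le_left : O ≤ W z.1)) z.1 hzO (e z.1), ← ht,
        ParaFLib.germ_smul', TopCat.Presheaf.germ_res_apply]
    show Mero.evalK X (W z.1) ⟨z.1, hxW z.1⟩ (g z.1).val • LocalizedModule.mk _ 1 = _
    rw [ht', ← LocalizedModule.smul'_mk]
    refine (congrArg (_ • ·) (algebraMap_smul (Mero.KStalk X z.1) _ _).symm).trans ?_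
    refine (smul_smul _ _ _).trans (congrArg (· • _) ?_)
    have e1 : Mero.evalK X (W z.1) ⟨z.1, hxW z.1⟩ ((g z.1)⁻¹).val * Mero.evalK X (W z.1) ⟨z.1, hxW z.1⟩ (g z.1).val = 1 := by
      rw [← map_mul, Units.inv_mul, map_one]
    have e2 : Mero.evalK X (W x) z ((g x)⁻¹).val * Mero.evalK X (W x) z (g x).val = 1 := by
      rw [← map_mul, Units.inv_mul, map_one]
    exact aux' _ _ _ _ _ e1 e2 h2
  refine ⟨⟨fun x => v x.1, fun x => ?_⟩, fun x q hq => ?_⟩
  · obtain ⟨T, hT, i', m, b, hmb⟩ := (g x.1).val.2 ⟨x.1, hxW x.1⟩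
    refine ⟨T, hT, homOfLE le_top, m • L.presheaf.map i'.op (e x.1), b, fun z => ?_⟩
    have h2 := hmb z
    dsimp only at h2
    refine (hv x.1 ⟨z.1, leOfHom i' z.2⟩).trans ?_
    refine (congrArg (· • _) h2).trans ?_
    refine (LocalizedModule.mk_smul_mk _ _ _ _).trans (Mero.mk_congr ?_ (congrArg _ (mul_one _)))
    rw [ParaFLib.germ_smul', TopCat.Presheaf.germ_res_apply]
  · change q • (Mero.evalK X (W x) ⟨x, hxW x⟩ (g x).val • _) = 0 at hq
    rw [smul_smul] at hq
    have hu : IsUnit (Mero.evalK X (W x) ⟨x, hxW x⟩ (g x).val) := (g x).isUnit.map _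
    refine hu.mul_left_eq_zero.1 ?_
    generalize q * Mero.evalK X (W x) ⟨x, hxW x⟩ (g x).val = p at hq ⊢
    induction p using LocalizedModule.induction_on with
    | _ a s =>
      have hq' := (LocalizedModule.mk_smul_mk a (L.presheaf.germ (W x) x (hxW x) (e x)) s 1).symm.trans hq
      rw [mul_one, ← LocalizedModule.zero_mk s, LocalizedModule.mk_eq] at hq'
      obtain ⟨u, hu⟩ := hq'
      simp only [smul_zero, Submonoid.smul_def, smul_smul] at hu
      have h3 := ((he x).bijective_germ x (hxW x)).1 (show _ • _ = (0 : X.presheaf.stalk x) • _ from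
        hu.trans (zero_smul _ _).symm)
      have h4 := (Mero.regStalk_le_nonZeroDivisors x (u * s).2)
      rw [Submonoid.coe_mul] at h4
      rw [(mul_right_mem_nonZeroDivisors_eq_zero_iff h4).1
        (show a * ((u : X.presheaf.stalk x) * (s : X.presheaf.stalk x)) = 0 by rw [← h3]; ring), LocalizedModule.zero_mk]

end Groth.Agent.MeroLib
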