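import Mathlib
import Groth.Agent.MeroLib.Extend
import Groth.Agent.AssLib.Weak

/-!
# Schemes whose weakly associated points are maximal
-/

set_option autoImplicit false
set_option maxHeartbeats 800000

universe u

open CategoryTheory AlgebraicGeometry TopologicalSpace

namespace Groth.Agent.MeroLib

variable {X : Scheme.{u}}

theorem mem_nonZeroDivisors_of_weakAss
    (ha : ∀ x : X, Curv2.IsWeakAssPoint (Coh.structureModule X) x → ∀ y : X, y ⤳ x → y = x)
    {W : X.Opens} (hW : IsAffineOpen W) {f : Γ(X, W)} (hf : ∀ p ∈ minimalPrimes Γ(X, W), f ∉ p) :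
    f ∈ nonZeroDivisors Γ(X, W) := by
  rw [mem_nonZeroDivisors_iff_right]
  intro c hc
  by_contra hc0
  have hne : (Submodule.span Γ(X, W) {c}).annihilator ≠ ⊤ := fun h => hc0 (by
    have := (Submodule.mem_annihilator_span_singleton c 1).1 (h ▸ Submodule.mem_top)
    simpa using this)
  obtain ⟨M, hM, hle⟩ := Ideal.exists_le_maximal _ hne
  haveI := hM.isPrime
  obtain ⟨P, hP, -⟩ := Ideal.exists_minimalPrimes_le hle
  obtain ⟨hPp, hw⟩ := (WeakAssLib.mem_minimalPrimes_iff P c).1 hP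
  let q : PrimeSpectrum Γ(X, W) := ⟨P, hPp⟩
  have hwk : Curv2.IsWeakAssPoint (Coh.structureModule X) (AssLib.pt hW q) :=
    (AssLib.isWeakAssPoint_iff (M := Coh.structureModule X) hW (AssLib.pt_mem hW q)).2
      ⟨c, by rw [AssLib.pr_pt]; exact hw⟩
  refine hf P (minimal_of_isMaxPt hW q (ha _ hwk)) (hw.le f ?_)
  rw [smul_eq_mul, mul_comm, hc]

theorem notMem_minimalPrimes_of_germ {W : X.Opens} (hW : IsAffineOpen W) {f : Γ(X, W)} {x : X} (hx : x ∈ W)
    (hf : X.presheaf.germ W x hx f ∈ nonZeroDivisors (X.presheaf.stalk x)) (p : Ideal Γ(X, W))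
    (hp : p ∈ minimalPrimes Γ(X, W)) (hle : p ≤ (hW.primeIdealOf ⟨x, hx⟩).asIdeal) : f ∉ p := by
  intro hfp
  haveI := hp.1.1
  have hd : ∃ s ∉ p, ∃ n : ℕ, s * f ^ n = 0 := by
    by_contra hcon
    push Not at hcon
    have hd : Disjoint ((⊥ : Ideal Γ(X, W)) : Set Γ(X, W)) (Submonoid.powers f ⊔ p.primeCompl : Submonoid Γ(X, W)) := by
      rw [Set.disjoint_left]
      intro z hz0 hz
      obtain ⟨a, ⟨n, rfl⟩, b, hb, rfl⟩ := Submonoid.mem_sup.mp hz
      exact hcon b hb n ((mul_comm _ _).trans hz0)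
    obtain ⟨q, hq, -, hqd⟩ := Ideal.exists_le_prime_disjoint ⊥ _ hd
    have hqp : q ≤ p := fun z hz => by_contra fun hzp =>
      Set.disjoint_left.mp hqd hz (Submonoid.mem_sup_right hzp)
    exact Set.disjoint_left.mp hqd (hp.2 ⟨hq, bot_le⟩ hqp hfp) (Submonoid.mem_sup_left (Submonoid.mem_powers f))
  obtain ⟨s, hs, n, hsn⟩ := hd
  letI : Algebra Γ(X, W) (X.presheaf.stalk x) := TopCat.Presheaf.algebra_section_stalk X.presheaf (⟨x, hx⟩ : W)
  haveI : IsLocalization.AtPrime (X.presheaf.stalk x) (hW.primeIdealOf ⟨x, hx⟩).asIdeal :=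
    hW.isLocalization_stalk ⟨x, hx⟩
  have h0 := congrArg (X.presheaf.germ W x hx) hsn
  rw [map_mul, map_pow, map_zero] at h0
  have hs0 : algebraMap Γ(X, W) (X.presheaf.stalk x) s = 0 :=
    (mul_right_mem_nonZeroDivisors_eq_zero_iff ((nonZeroDivisors _).pow_mem hf n)).1 h0
  obtain ⟨t, ht⟩ := (IsLocalization.map_eq_zero_iff (hW.primeIdealOf ⟨x, hx⟩).asIdeal.primeCompl _ _).1 hs0
  have : (t : Γ(X, W)) * s ∈ p := by rw [ht]; exact p.zero_mem
  exact t.2 (hle ((hp.1.1.mem_or_mem this).resolve_right hs))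

theorem finite_minimalPrimes_of_compact
    (hb : ∀ U : X.Opens, IsCompact (U : Set X) → (irreducibleComponents ↥(U : Scheme.{u})).Finite)
    {W : X.Opens} (hW : IsAffineOpen W) : (minimalPrimes Γ(X, W)).Finite := by
  refine finite_minimalPrimes (W := W) ?_ hW le_rfl
  classical
  let S := {Z : Set X | Z ∈ irreducibleComponents X ∧ (Z ∩ (W : Set X)).Nonempty}
  have hgen : ∀ Z : S, ∃ ξ : W, closure ({ξ.1} : Set X) = Z.1 ∧ IsMaxPt ξ.1 := by
    rintro ⟨Z, hZ, z, hzZ, hzW⟩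
    have hg := hZ.1.isGenericPoint_genericPoint (isClosed_of_mem_irreducibleComponents Z hZ)
    exact ⟨⟨hZ.1.genericPoint, (hg.specializes hzZ).mem_open W.2 hzW⟩, hg,
      (isMaxPt_iff _).2 (hg.symm ▸ hZ)⟩
  choose ξ hξ hξm using hgen
  have hWmax : ∀ Z, closure ({ξ Z} : Set W.toScheme) ∈ irreducibleComponents W.toScheme := fun Z =>
    (isMaxPt_iff (X := W.toScheme) (ξ Z)).1 fun z hz => by
      exact Subtype.ext (hξm Z z.1 (hz.map W.ι.continuous))
  refine Set.finite_coe_iff.1 (@Finite.of_injective _ _ (hb W hW.isCompact).to_subtype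
    (fun Z : S => (⟨closure ({ξ Z} : Set W.toScheme), hWmax Z⟩ : irreducibleComponents W.toScheme)) fun Z Z' h => ?_)
  have h1 : closure ({ξ Z} : Set W.toScheme) = closure {ξ Z'} := congrArg Subtype.val h
  have h2 : ξ Z = ξ Z' :=
    ((specializes_iff_closure_subset).2 h1.ge).antisymm ((specializes_iff_closure_subset).2 h1.le) |>.eq
  exact Subtype.ext (by rw [← hξ Z, h2, hξ Z'])

theorem mem_regStalk_of_weakAss
    (ha : ∀ x : X, Curv2.IsWeakAssPoint (Coh.structureModule X) x → ∀ y : X, y ⤳ x → y = x)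
    (hb : ∀ U : X.Opens, IsCompact (U : Set X) → (irreducibleComponents ↥(U : Scheme.{u})).Finite)
    (x : X) {g : X.presheaf.stalk x} (hg : g ∈ nonZeroDivisors (X.presheaf.stalk x)) : g ∈ Mero.regStalk X x := by
  classical
  obtain ⟨V, hxV, r, rfl⟩ := TopCat.Presheaf.exists_germ_eq X.presheaf g
  obtain ⟨W, hW, hxW, hWV⟩ := exists_isAffineOpen_mem_and_subset hxV
  have hle : W ≤ V := hWV
  let f : Γ(X, W) := X.presheaf.map (homOfLE hle).op r
  have hfx : X.presheaf.germ W x hxW f = X.presheaf.germ V x hxV r := X.presheaf.germ_res_apply _ _ _ r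
  let q := (hW.primeIdealOf ⟨x, hxW⟩).asIdeal
  let P := ((finite_minimalPrimes_of_compact hb hW).toFinset).filter fun p => ¬ p ≤ q
  have hnle : ¬ P.inf id ≤ q := fun h => by
    obtain ⟨p, hp, hpq⟩ := ((hW.primeIdealOf ⟨x, hxW⟩).2.inf_le' (s := P) (f := id)).1 h
    exact (Finset.mem_filter.1 hp).2 hpq
  obtain ⟨b, hbP, hbq⟩ := SetLike.not_le_iff_exists.1 hnle
  rw [Submodule.mem_finsetInf] at hbP
  let B := X.basicOpen b
  have hB : IsAffineOpen B := hW.basicOpen b
  have hxB : x ∈ B := (X.mem_basicOpen b x hxW).2 (by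
    letI : Algebra Γ(X, W) (X.presheaf.stalk x) := TopCat.Presheaf.algebra_section_stalk X.presheaf (⟨x, hxW⟩ : W)
    haveI : IsLocalization.AtPrime (X.presheaf.stalk x) (hW.primeIdealOf ⟨x, hxW⟩).asIdeal :=
      hW.isLocalization_stalk ⟨x, hxW⟩
    exact (IsLocalization.AtPrime.isUnit_to_map_iff (X.presheaf.stalk x) q b).2 hbq)
  refine ⟨B, hxB, X.presheaf.map (homOfLE (X.basicOpen_le b)).op f, fun z => ?_, ?_⟩
  · refine germ_mem_nonZeroDivisors hB (mem_nonZeroDivisors_of_weakAss ha hB fun p hp hfp => ?_) z.1 z.2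
    let p' : PrimeSpectrum Γ(X, B) := ⟨p, hp.1.1⟩
    have hy : hB.fromSpec p' ∈ B := hB.range_fromSpec.subset (Set.mem_range_self p')
    have hnu := (isUnit_germ_fromSpec hB p' hy _).not.2 (not_not.2 hfp)
    obtain ⟨y, hyy⟩ : ∃ y, y = hB.fromSpec p' := ⟨_, rfl⟩
    have hyW : hB.fromSpec p' ∈ W := X.basicOpen_le b hy
    rw [TopCat.Presheaf.germ_res_apply] at hnu
    obtain ⟨q', hq'⟩ := hW.range_fromSpec.superset hyW
    have hmax : IsMaxPt (hW.fromSpec q') := hq' ▸ isMaxPt_fromSpec hB p' hp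
    have hq'' : hW.fromSpec q' ∈ W := hW.range_fromSpec.subset (Set.mem_range_self q')
    have hmin := minimal_of_isMaxPt hW q' hmax
    have hyb : IsUnit (X.presheaf.germ W (hB.fromSpec p') hyW b) := (X.mem_basicOpen b _ hyW).1 hy
    have hbq' : b ∉ (q' : PrimeSpectrum Γ(X, W)).asIdeal := by
      refine (isUnit_germ_fromSpec hW q' hq'' b).1 ?_
      have e : ∀ (z w : X) (hz : z ∈ W) (hw : w ∈ W), z = w → IsUnit (X.presheaf.germ W z hz b) →
          IsUnit (X.presheaf.germ W w hw b) := by rintro z w hz hw rfl h; exact h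
      exact e _ _ _ _ hq'.symm hyb
    have hle' : (q' : PrimeSpectrum Γ(X, W)).asIdeal ≤ q := by_contra fun h =>
      hbq' (hbP _ (Finset.mem_filter.2 ⟨(Set.Finite.mem_toFinset _).2 hmin, h⟩))
    refine notMem_minimalPrimes_of_germ hW hxW (hfx ▸ hg) _ hmin hle' ?_
    by_contra hfq
    refine hnu ?_
    have e : ∀ (z w : X) (hz : z ∈ W) (hw : w ∈ W), z = w → IsUnit (X.presheaf.germ W z hz f) →
        IsUnit (X.presheaf.germ W w hw f) := by rintro z w hz hw rfl h; exact h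
    exact e _ _ _ _ hq' ((isUnit_germ_fromSpec hW q' hq'' f).2 hfq)
  · exact (X.presheaf.germ_res_apply _ _ _ f).trans hfx

end Groth.Agent.MeroLib
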